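import Cfsg.Agent.Lib.U62Rec.Ident
import Cfsg.Agent.Lib.U62Rec.Model.Geo
import Cfsg.Agent.Lib.McLTwoA8.Isolated
import Cfsg.Agent.Lib.Solvable.Fitting
import Cfsg.Agent.Lib.Qd.Basic
import Cfsg.Agent.S0270

/-!
Assembly for the recognition of the unitary group in dimension six over four elements: the hypotheses pass to
conjugates, an isolated involution gives a factorisation, any other one gives the class.
-/

set_option autoImplicit false
set_option linter.style.haveILetI false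
set_option linter.unusedSectionVars false

namespace Cfsg.Agent.U62Rec

open Subgroup LargeExtra

universe u

variable {G : Type u} [Group G] [Finite G] {F : Type*} [Field F] [Fintype F]

/-- The hypotheses on the centralizer of an involution. -/
def Hyp (F : Type*) [Field F] [Fintype F] (w : G) : Prop :=
  orderOf w = 2 ∧ Cfsg.IsExtraspecial 2 ↥(Cfsg.pCore 2 ↥(centralizer ({w} : Set G))) ∧
  Nat.card ↥(Cfsg.pCore 2 ↥(centralizer ({w} : Set G))) = 2 ^ 9 ∧
  centralizer ((Cfsg.pCore 2 ↥(centralizer ({w} : Set G))) : Set ↥(centralizer ({w} : Set G))) ≤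
    Cfsg.pCore 2 ↥(centralizer ({w} : Set G)) ∧
  ∃ _h : (Cfsg.pCore 2 ↥(centralizer ({w} : Set G))).Normal,
    Nonempty ((↥(centralizer ({w} : Set G)) ⧸ Cfsg.pCore 2 ↥(centralizer ({w} : Set G))) ≃* Cfsg.PSp 2 F)

theorem Hyp.conj {z : G} (h : Hyp F z) (g : G) : Hyp F (g * z * g⁻¹) := by
  obtain ⟨h1, h2, h3, h4, hn, ⟨e⟩⟩ := h
  have hmap : (centralizer ({z} : Set G)).map (MulAut.conj g).toMonoidHom = centralizer ({g * z * g⁻¹} : Set G) := by
    ext a
    rw [mem_conjMap, mem_centralizer_one, mem_centralizer_one]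
    constructor
    · intro ha
      calc a * (g * z * g⁻¹) = g * (g⁻¹ * a * g * z) * g⁻¹ := by group
        _ = g * (z * (g⁻¹ * a * g)) * g⁻¹ := by rw [ha]
        _ = g * z * g⁻¹ * a := by group
    · intro ha
      calc g⁻¹ * a * g * z = g⁻¹ * (a * (g * z * g⁻¹)) * g := by group
        _ = g⁻¹ * (g * z * g⁻¹ * a) * g := by rw [ha]
        _ = z * (g⁻¹ * a * g) := by group
  obtain ⟨f, -⟩ : ∃ f : ↥(centralizer ({z} : Set G)) ≃* ↥(centralizer ({g * z * g⁻¹} : Set G)), True :=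
    ⟨((centralizer ({z} : Set G)).equivMapOfInjective _ (MulAut.conj g).injective).trans
      (MulEquiv.subgroupCongr hmap), trivial⟩
  have hc := FittingCores.pCore_map_equiv 2 f
  obtain ⟨fJ, -⟩ : ∃ fJ : ↥(Cfsg.pCore 2 ↥(centralizer ({z} : Set G))) ≃*
      ↥(Cfsg.pCore 2 ↥(centralizer ({g * z * g⁻¹} : Set G))), True :=
    ⟨((Cfsg.pCore 2 ↥(centralizer ({z} : Set G))).equivMapOfInjective _ f.injective).trans
      (MulEquiv.subgroupCongr hc), trivial⟩
  have hn' : (Cfsg.pCore 2 ↥(centralizer ({g * z * g⁻¹} : Set G))).Normal := FiniteGroup.pCore_normal 2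
  refine ⟨(MulEquiv.orderOf_eq (MulAut.conj g) z).trans h1, Qd.isExtraspecial_congr fJ.symm h2,
    (Nat.card_congr fJ.toEquiv).symm.trans h3, fun x hx => ?_, hn',
    ⟨(QuotientGroup.congr _ _ f hc).symm.trans e⟩⟩
  have hx' : f.symm x ∈ Cfsg.pCore 2 ↥(centralizer ({z} : Set G)) := by
    refine h4 (mem_centralizer_iff.2 fun a ha => f.injective ?_)
    rw [map_mul, map_mul, MulEquiv.apply_symm_apply]
    exact mem_centralizer_iff.1 hx (f a) (hc ▸ ⟨a, ha, rfl⟩)
  exact hc ▸ ⟨f.symm x, hx', f.apply_symm_apply x⟩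

theorem Hyp.card_centralizer {z : G} (h : Hyp F z) (hF : Fintype.card F = 3) :
    Nat.card ↥(centralizer ({z} : Set G)) = 13271040 := by
  obtain ⟨-, -, h3, -, hn, ⟨e⟩⟩ := h
  rw [card_eq_card_quotient_mul_card_subgroup (Cfsg.pCore 2 ↥(centralizer ({z} : Set G))),
    Nat.card_congr e.toEquiv, S3342Id.card_psp_three hF, h3]
  norm_num

theorem Hyp.simple {z : G} (h : Hyp F z) (hF : Fintype.card F = 3) :
    ∀ N : Subgroup G, N ≤ centralizer {z} → centralizer {z} ≤ normalizer (N : Set G) →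
      coreAt z ≤ N → N = coreAt z ∨ N = centralizer {z} := by
  obtain ⟨-, -, -, -, hn, ⟨e⟩⟩ := h
  intro N hle hnN hJN
  haveI : IsSimpleGroup (Cfsg.PSp 2 F) := S0270.result 2 le_rfl fun _ => hF.ge
  haveI : IsSimpleGroup (↥(centralizer ({z} : Set G)) ⧸ Cfsg.pCore 2 ↥(centralizer ({z} : Set G))) := e.isSimpleGroup
  obtain ⟨M, hM⟩ : ∃ M, M = N.subgroupOf (centralizer ({z} : Set G)) := ⟨_, rfl⟩
  haveI : M.Normal := hM ▸ normal_subgroupOf_of_le_normalizer hnN
  have hJM : Cfsg.pCore 2 ↥(centralizer ({z} : Set G)) ≤ M := fun a ha =>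
    hM ▸ mem_subgroupOf.2 (hJN ⟨a, ha, rfl⟩)
  have hq := (Subgroup.Normal.map (inferInstance : M.Normal) (QuotientGroup.mk' (Cfsg.pCore 2 ↥(centralizer ({z} : Set G))))
    (QuotientGroup.mk'_surjective _)).eq_bot_or_eq_top
  rcases hq with hq | hq
  · refine Or.inl (le_antisymm (fun a ha => ?_) hJN)
    have := (Subgroup.map_eq_bot_iff _).1 hq (x := (⟨a, hle ha⟩ : ↥(centralizer ({z} : Set G)))) (hM ▸ mem_subgroupOf.2 ha)
    rw [QuotientGroup.ker_mk'] at this
    exact ⟨_, this, rfl⟩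
  · refine Or.inr (le_antisymm hle fun a ha => ?_)
    have h2 := congrArg (Subgroup.comap (QuotientGroup.mk' (Cfsg.pCore 2 ↥(centralizer ({z} : Set G))))) hq
    rw [QuotientGroup.comap_map_mk', Subgroup.comap_top, sup_eq_right.2 hJM] at h2
    have : (⟨a, ha⟩ : ↥(centralizer ({z} : Set G))) ∈ M := h2 ▸ mem_top _
    exact mem_subgroupOf.1 (hM ▸ this)

/-- The recognition, from the local hypotheses at every non-isolated conjugate. -/
theorem recognition {z : G} (h : Hyp F z) (hF : Fintype.card F = 3) {K : Type*} [Field K] [Fintype K]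
    (hK : Fintype.card K = 4)
    (hloc : ∀ w : G, Hyp F w → Nonempty (Loc Model.geo w) ∨ Cfsg.IsIsolated w) :
    Nonempty (G ≃* Cfsg.PSU 6 K 2) ∨ centralizer ({z} : Set G) ⊔ Cfsg.oddCore G = ⊤ := by
  by_cases hiso : Cfsg.IsIsolated z
  · exact Or.inr (McLTwoA8.sup_oddCore_of_isolated z h.1 hiso)
  left
  have hnbr : ∀ w ∈ conjugatesOf z, ∃ e, e ∈ nbr (conjugatesOf z) w := by
    intro w hw
    obtain ⟨c, rfl⟩ := isConj_iff.1 (mem_conjOf.1 hw)
    obtain ⟨g, hg, hne⟩ : ∃ g, Commute z (g * z * g⁻¹) ∧ g * z * g⁻¹ ≠ z := by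
      simpa [Cfsg.IsIsolated] using hiso
    exact ⟨c * (g * z * g⁻¹) * c⁻¹, mem_conjOf.2 (isConj_iff.2 ⟨c * g, by group⟩),
      fun e => hne (mul_left_cancel (mul_right_cancel e)), hg.map (MulAut.conj c).toMonoidHom⟩
  have hL : ∀ w ∈ conjugatesOf z, Nonempty (Loc Model.geo w) := by
    intro w hw
    obtain ⟨e, he, hne, hc⟩ := hnbr w hw
    obtain ⟨c, hcw⟩ := isConj_iff.1 (mem_conjOf.1 hw)
    refine (hloc w (hcw ▸ h.conj c)).resolve_right fun hi => ?_
    obtain ⟨d, hd⟩ := isConj_iff.1 ((mem_conjOf.1 hw).symm.trans (mem_conjOf.1 he))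
    exact hne (hd ▸ hi d (hd.symm ▸ hc))
  let Fm : Fam (G := G) Model.geo :=
    { D := conjugatesOf z
      conj_mem := fun g d hd => mem_conjOf.2 ((mem_conjOf.1 hd).trans (isConj_iff.2 ⟨g, rfl⟩))
      isConj := fun a ha b hb =>
        isConj_iff.1 ((mem_conjOf.1 ha).symm.trans (mem_conjOf.1 hb))
      loc := fun d hd => (hL d hd).some }
  exact Fm.iso hnbr (mem_conjOf.2 (IsConj.refl z)) (h.card_centralizer hF) (h.simple hF) hK

end Cfsg.Agent.U62Rec
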