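import Cfsg.Agent.Lib.U62Rec.Setting
import Cfsg.Agent.Lib.BrauerSuzuki.ZStar
import Cfsg.Agent.Lib.LargeExtra.Basic
import Cfsg.Agent.Lib.Solvable.Coprime

/-!
Two members of the class either commute or have a product of odd order: products of order four are excluded
by a fixed point on a line, the centralizer of the product of two commuting members is read off from the
Z*-theorem.
-/

set_option autoImplicit false
set_option linter.style.haveILetI false
set_option linter.unusedSectionVars false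

namespace Cfsg.Agent.U62Rec.Setting

open Subgroup

universe u

variable {G : Type u} [Group G] {P : Type} [Fintype P] [DecidableEq P] (S : Setting G P) {d e f x y z t : G}

theorem sq (hd : d ∈ S.D) : d * d = 1 := by rw [← pow_two, ← S.invol d hd, pow_orderOf_eq_one]

theorem ne_one (hd : d ∈ S.D) : d ≠ 1 := fun h => by
  have := S.invol d hd; rw [h, orderOf_one] at this; omega

theorem inv_eq (hd : d ∈ S.D) : d⁻¹ = d := inv_eq_of_mul_eq_one_right (S.sq hd)

theorem nbr_symm (hd : d ∈ S.D) (he : e ∈ nbr S.D d) : d ∈ nbr S.D e := ⟨hd, he.2.1.symm, he.2.2.symm⟩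

theorem nbr_conj (g : G) (he : e ∈ nbr S.D d) : g * e * g⁻¹ ∈ nbr S.D (g * d * g⁻¹) :=
  ⟨S.conj_mem g e he.1, fun h => he.2.1 (mul_left_cancel (mul_right_cancel h)), he.2.2.map (MulAut.conj g).toMonoidHom⟩

theorem nbr_conj' {g : G} (hg : Commute d g) (he : e ∈ nbr S.D d) : g * e * g⁻¹ ∈ nbr S.D d := by
  have := S.nbr_conj g he
  rwa [← hg.eq, mul_inv_cancel_right] at this

theorem mul_ne_one (he : e ∈ nbr S.D d) : d * e ≠ 1 := fun h => he.2.1 <| by
  have hd : d = e⁻¹ := eq_inv_of_mul_eq_one_left h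
  rw [hd, S.inv_eq he.1]

theorem mul_sq (hd : d ∈ S.D) (he : e ∈ nbr S.D d) : d * e * (d * e) = 1 := by
  rw [he.2.2.symm.mul_mul_mul_comm, S.sq hd, S.sq he.1, one_mul]

/-- No product of two members has order four. -/
theorem no_four (hz : z ∈ S.D) (hy : y ∈ S.D) (h4 : (z * y) ^ 4 = 1) : Commute z y := by
  classical
  by_contra hnc
  have hzz := S.sq hz
  have hyy := S.sq hy
  have hzi := S.inv_eq hz
  have hyi := S.inv_eq hy
  obtain ⟨t, ht_def⟩ : ∃ t, t = y * z * y⁻¹ := ⟨_, rfl⟩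
  have htD : t ∈ S.D := ht_def ▸ S.conj_mem y z hz
  have h2 : (y * z) * (y * z) = (z * y) * (z * y) := by
    have e1 : (z * y) * (z * y) * ((z * y) * (z * y)) = 1 := by
      rw [← h4]; simp [pow_succ, mul_assoc]
    have e2 : (y * z) * (y * z) = ((z * y) * (z * y))⁻¹ := by
      simp only [_root_.mul_inv_rev, hzi, hyi, mul_assoc]
    rw [e2]
    exact inv_eq_of_mul_eq_one_right e1
  have hct : Commute z t := by
    show z * t = t * z
    rw [ht_def, hyi]
    calc z * (y * z * y) = (z * y) * (z * y) := by group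
      _ = (y * z) * (y * z) := h2.symm
      _ = y * z * y * z := by group
  have htz : t ≠ z := fun h => hnc <| by
    show z * y = y * z
    calc z * y = t * y := by rw [h]
      _ = y * z := by rw [ht_def, inv_mul_cancel_right]
  have htn : t ∈ nbr S.D z := ⟨htD, htz, hct⟩
  have hzn : z ∈ nbr S.D t := S.nbr_symm hz htn
  -- the three further members of the line
  set T := {f | f ∈ nbr S.D z ∧ S.pt z f = S.pt z t ∧ f ≠ t} with hT
  have hy_t : y * t * y⁻¹ = z := by rw [ht_def, hyi]; simp [mul_assoc, hyy, ← mul_assoc y y]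
  have hmaps : ∀ f ∈ T, y * f * y⁻¹ ∈ T := by
    rintro f ⟨hf, hpf, hft⟩
    have hsym : S.pt t z = S.pt t f := S.line_symm z hz t htn f hf hft.symm hpf.symm
    have hfn : f ∈ nbr S.D t := ⟨hf.1, hft, S.line_comm z hz t htn f hf hpf.symm⟩
    have hc := S.line_conj y t htD z hzn f hfn hsym
    rw [hy_t, ← ht_def] at hc
    exact ⟨hy_t ▸ S.nbr_conj y hfn, hc.symm, fun h => hf.2.1 (mul_left_cancel (mul_right_cancel (h.trans ht_def)))⟩
  obtain ⟨f, ⟨hf, hpf, hft⟩, hfy⟩ : ∃ f ∈ T, y * f * y⁻¹ = f := by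
    have h4' := S.fibre_card z hz (S.pt z t)
    have hins : {f | f ∈ nbr S.D z ∧ S.pt z f = S.pt z t} = insert t T := by
      ext f
      simp only [hT, Set.mem_ofPred_eq, Set.mem_insert_iff]
      constructor
      · intro h; by_cases hft : f = t
        · exact Or.inl hft
        · exact Or.inr ⟨h.1, h.2, hft⟩
      · rintro (rfl | h)
        · exact ⟨htn, rfl⟩
        · exact ⟨h.1, h.2.1⟩
    have hfin : {f | f ∈ nbr S.D z ∧ S.pt z f = S.pt z t}.Finite :=
      Set.finite_of_ncard_ne_zero (by rw [h4']; norm_num)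
    have hTfin : T.Finite := hfin.subset (by rw [hins]; exact Set.subset_insert _ _)
    rw [hins, Set.ncard_insert_of_notMem (fun h => h.2.2 rfl) hTfin] at h4'
    haveI := hTfin.fintype
    let σ : Equiv.Perm T :=
      { toFun := fun a => ⟨y * a * y⁻¹, hmaps a a.2⟩
        invFun := fun a => ⟨y * a * y⁻¹, hmaps a a.2⟩
        left_inv := fun a => Subtype.ext (by simp [hyi, mul_assoc, hyy, ← mul_assoc y y])
        right_inv := fun a => Subtype.ext (by simp [hyi, mul_assoc, hyy, ← mul_assoc y y]) }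
    haveI : Fact (Nat.Prime 2) := ⟨Nat.prime_two⟩
    obtain ⟨a, ha⟩ := Equiv.Perm.exists_fixed_point_of_prime (p := 2) (n := 1) (σ := σ)
      (by rw [← Nat.card_eq_fintype_card, Nat.card_coe_set_eq]; omega)
      (by rw [pow_one, pow_two]; exact Equiv.ext fun a => σ.left_inv a)
    exact ⟨a, a.2, congrArg Subtype.val ha⟩
  -- inside the centralizer of the fixed member
  have hcyf : Commute f y := (mul_inv_eq_iff_eq_mul.1 hfy).symm
  have hzf : z ∈ nbr S.D f := S.nbr_symm hz hf
  have hyf : y ∈ nbr S.D f := ⟨hy, fun h => hnc (h ▸ hf.2.2), hcyf⟩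
  have htf : t ∈ nbr S.D f := by
    have := S.line_comm z hz t htn f hf hpf.symm
    exact ⟨htD, Ne.symm hft, this.symm⟩
  have hline : S.pt f z = S.pt f t := S.line_symm z hz f hf t htn hft hpf
  by_cases hsame : S.pt f z = S.pt f y
  · exact hnc (S.line_comm f hf.1 z hzf y hyf hsame)
  by_cases hadj : S.adj (S.pt f z) (S.pt f y)
  · have hfix := S.perm_fix f hf.1 z hzf y hyf (Or.inr hadj)
    rw [← S.pt_conj f hf.1 z hzf.2.2 y hyf] at hfix
    have he : z * t = y * (z * y * z⁻¹) := by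
      rw [ht_def, hzi, hyi]
      calc z * (y * z * y) = (z * y) * (z * y) := by group
        _ = (y * z) * (y * z) := h2.symm
        _ = y * (z * y * z) := by group
    have := S.line_prod f hf.1 z hzf t htf y hyf (z * y * z⁻¹) (S.nbr_conj' hzf.2.2 hyf)
      htz.symm hline hfix.symm he
    exact S.adj_irrefl _ (this ▸ hadj)
  · obtain ⟨h3, hnot⟩ := S.pow_three_mem f hf.1 z hzf y hyf hsame hadj
    refine hnot ?_
    have : (z * y) = ((z * y) ^ 3)⁻¹ := eq_inv_of_mul_eq_one_left (by rw [← pow_succ', h4])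
    rw [this]
    exact inv_mem h3


variable [Finite G]

/-- The data of a commuting pair. -/
structure Pair (S : Setting G P) (z t : G) : Prop where
  hz : z ∈ S.D
  ht : t ∈ nbr S.D z

theorem Pair.symm {S : Setting G P} (p : Pair S z t) : Pair S t z := ⟨p.ht.1, S.nbr_symm p.hz p.ht⟩

namespace Pair

variable {S : Setting G P} (p : Pair S z t)

include p

theorem conj_commute {k : G} (hk : Commute (z * t) k) (hc : Commute z (k * z * k⁻¹)) :
    k * z * k⁻¹ = z ∨ k * z * k⁻¹ = t := by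
  by_cases h : k * z * k⁻¹ = z
  · exact Or.inl h
  have hkt : k * t * k⁻¹ = z * t * (k * z * k⁻¹) := by
    have hz2 := S.sq p.hz
    calc k * t * k⁻¹ = k * (z * t) * z * k⁻¹ := by
          rw [p.ht.2.2.eq]; simp [mul_assoc, hz2]
      _ = z * t * (k * z * k⁻¹) := by rw [← hk.eq]; group
  have hct : Commute t (k * z * k⁻¹) := by
    have h1 : Commute (z * t) (k * z * k⁻¹) := by
      have hw : k * (z * t) * k⁻¹ = z * t := mul_inv_eq_iff_eq_mul.2 hk.eq.symm
      have h0 : Commute (z * t) z := (Commute.refl z).mul_left p.ht.2.2.symm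
      have := h0.map (MulAut.conj k).toMonoidHom
      simp only [MulEquiv.coe_toMonoidHom, MulAut.conj_apply, hw] at this
      exact this
    have h2 := hc.mul_left h1
    rwa [← mul_assoc, S.sq p.hz, one_mul] at h2
  exact Or.inr (S.mul_unique z p.hz t p.ht _ ⟨S.conj_mem k z p.hz, h, hc⟩ hct (hkt ▸ S.conj_mem k t p.ht.1)).symm

theorem fix_bot {N : Subgroup G} (hN : Odd (Nat.card N)) (hNK : N ≤ centralizer {z * t})
    (hKN : centralizer {z * t} ≤ normalizer (N : Set G)) {x : G} (hx : x ∈ N) (hc : Commute z x) : x = 1 := by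
  have hle : centralizer {z, t} ≤ centralizer {z * t} := fun g hg => by
    rw [mem_centralizer_iff] at hg
    exact mem_centralizer_singleton_iff.2
      ((Commute.mul_left (hg z (by simp)) (hg t (by simp)) : Commute (z * t) g)).eq.symm
  have hbot : N ⊓ centralizer {z, t} = ⊥ := by
    refine S.odd_trivial z p.hz t p.ht _ (hN.of_dvd_nat (Subgroup.card_dvd_of_le inf_le_left)) inf_le_right ?_
    intro g hg
    refine mem_normalizer_iff.2 fun a => ?_
    have h1 := mem_normalizer_iff.1 (hKN (hle hg)) a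
    have h2 := mem_normalizer_iff.1 (le_normalizer hg) a
    simp only [SetLike.mem_coe, mem_inf] at h1 h2 ⊢
    rw [h1, h2]
  have hxC : x ∈ centralizer {z, t} := by
    have h1 : Commute (z * t) x := (mem_centralizer_singleton_iff.1 (hNK hx)).symm
    have h2 : Commute t x := by
      have := hc.mul_left h1
      rwa [← mul_assoc, S.sq p.hz, one_mul] at this
    rw [mem_centralizer_iff]
    rintro a (rfl | rfl)
    exacts [hc.eq, h2.eq]
  exact mem_bot.1 (hbot ▸ ⟨hx, hxC⟩)

theorem inverted {N : Subgroup G} (hN : Odd (Nat.card N)) (hNK : N ≤ centralizer {z * t})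
    (hKN : centralizer {z * t} ≤ normalizer (N : Set G)) {x : G} (hx : x ∈ N) : z * x * z⁻¹ = x⁻¹ := by
  refine LargeExtra.conj_eq_inv (S.sq p.hz) (hKN (mem_centralizer_singleton_iff.2 ?_))
    (fun k hk hc => p.fix_bot hN hNK hKN hk hc) hx
  exact (((Commute.refl z).mul_left p.ht.2.2.symm : Commute (z * t) z)).eq.symm

theorem odd_bot {N : Subgroup G} (hN : Odd (Nat.card N)) (hNK : N ≤ centralizer {z * t})
    (hKN : centralizer {z * t} ≤ normalizer (N : Set G)) : N = ⊥ := by
  classical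
  refine (eq_bot_iff_forall _).2 fun x hx => ?_
  have hx1 : ∀ {k : G}, k ∈ N → k * k = 1 → k = 1 := fun hk h => LargeExtra.eq_one_of_sq hN hk h
  have iz := fun {k} (hk : k ∈ N) => p.inverted hN hNK hKN hk
  have it : ∀ {k : G}, k ∈ N → t * k * t⁻¹ = k⁻¹ := fun hk => by
    have e := p.ht.2.2.eq
    exact p.symm.inverted hN (e ▸ hNK) (e ▸ hKN) hk
  have hline : ∀ a, a ∈ nbr S.D z → S.pt z a = S.pt z t → a ≠ t → ∀ k ∈ N, a * k * a⁻¹ = k⁻¹ := by
    intro a ha hpa hat k hk
    have hct : Commute t a := S.line_comm z p.hz t p.ht a ha hpa.symm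
    have haw : Commute (z * t) a := ha.2.2.mul_left hct
    refine LargeExtra.conj_eq_inv (S.sq ha.1) (hKN (mem_centralizer_singleton_iff.2 haw.eq.symm))
      (fun m hm hcm => ?_) hk
    -- a member of `N` fixing `a`
    have hcm' : Commute a m := hcm
    have hmw : Commute (z * t) m := (mem_centralizer_singleton_iff.1 (hNK hm)).symm
    have hza : z ∈ nbr S.D a := S.nbr_symm p.hz ha
    have hta : t ∈ nbr S.D a := ⟨p.ht.1, Ne.symm hat, hct.symm⟩
    have hpl : S.pt a z = S.pt a t := S.line_symm z p.hz a ha t p.ht hat hpa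
    have hy := S.nbr_conj' hcm' hza
    have hy' := S.nbr_conj' hcm' hta
    have hpy : S.pt a (m * z * m⁻¹) = S.pt a (m * t * m⁻¹) := by
      rw [S.pt_conj a ha.1 m hcm' z hza, S.pt_conj a ha.1 m hcm' t hta, hpl]
    have heq : z * t = (m * z * m⁻¹) * (m * t * m⁻¹) := by
      rw [show (m * z * m⁻¹) * (m * t * m⁻¹) = m * (z * t) * m⁻¹ by group, ← hmw.eq, mul_inv_cancel_right]
    have hsame := S.line_prod a ha.1 z hza t hta _ hy _ hy' p.ht.2.1.symm hpl hpy heq
    have hmm : m * z * m⁻¹ = m * m * z := by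
      have := iz hm
      calc m * z * m⁻¹ = m * (z * m⁻¹ * z⁻¹) * z := by group
        _ = m * m * z := by
          rw [show z * m⁻¹ * z⁻¹ = (z * m * z⁻¹)⁻¹ by group, this, inv_inv]
    rcases p.conj_commute hmw (S.line_comm a ha.1 z hza _ hy hsame) with h | h
    · refine hx1 hm ?_
      rw [hmm] at h
      simpa using h
    · exfalso
      rw [hmm] at h
      have hmm' : m * m = t * z := by rw [← h, mul_assoc, S.sq p.hz, mul_one]
      refine S.mul_ne_one (S.nbr_symm p.hz p.ht) (hx1 (hmm' ▸ mul_mem hm hm) ?_)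
      exact S.mul_sq p.ht.1 (S.nbr_symm p.hz p.ht)
  have h4 := S.fibre_card z p.hz (S.pt z t)
  obtain ⟨a, ha, hat⟩ : ∃ a ∈ {f | f ∈ nbr S.D z ∧ S.pt z f = S.pt z t}, a ≠ t :=
    Set.exists_ne_of_one_lt_ncard (by omega) t
  obtain ⟨b, hb, hbt, hba⟩ : ∃ b ∈ {f | f ∈ nbr S.D z ∧ S.pt z f = S.pt z t}, b ≠ t ∧ b ≠ a := by
    by_contra hcon
    push Not at hcon
    have : {f | f ∈ nbr S.D z ∧ S.pt z f = S.pt z t} ⊆ {t, a} := fun b hb => by
      by_cases hbt : b = t
      · exact Or.inl hbt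
      · exact Or.inr (hcon b hb hbt)
    have := Set.ncard_le_ncard this (Set.toFinite _)
    have := Set.ncard_insert_le t ({a} : Set G)
    rw [Set.ncard_singleton] at this
    omega
  obtain ⟨c, hc, hct, hca, hcb⟩ : ∃ c ∈ {f | f ∈ nbr S.D z ∧ S.pt z f = S.pt z t}, c ≠ t ∧ c ≠ a ∧ c ≠ b := by
    by_contra hcon
    push Not at hcon
    have : {f | f ∈ nbr S.D z ∧ S.pt z f = S.pt z t} ⊆ {t, a, b} := fun c hc => by
      by_cases hct : c = t
      · exact Or.inl hct
      · by_cases hca : c = a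
        · exact Or.inr (Or.inl hca)
        · exact Or.inr (Or.inr (hcon c hc hct hca))
    have := Set.ncard_le_ncard this (Set.toFinite _)
    have := Set.ncard_insert_le t ({a, b} : Set G)
    have := Set.ncard_insert_le a ({b} : Set G)
    rw [Set.ncard_singleton] at this
    omega
  have h5 := S.line_five z p.hz t p.ht a ha.1 b hb.1 c hc.1 hat.symm hbt.symm hct.symm hba.symm hca.symm hcb.symm
    ha.2.symm hb.2.symm hc.2.symm
  have e := congrArg (fun g => g * x * g⁻¹) h5
  rw [show z * t * a * b * c * x * (z * t * a * b * c)⁻¹ = z * (t * (a * (b * (c * x * c⁻¹) * b⁻¹) * a⁻¹) * t⁻¹) * z⁻¹ by group,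
    hline c hc.1 hc.2 hct x hx, hline b hb.1 hb.2 hbt _ (inv_mem hx), inv_inv, hline a ha.1 ha.2 hat x hx,
    it (inv_mem hx), inv_inv, iz hx, one_mul, inv_one, mul_one] at e
  refine hx1 hx ?_
  calc x * x = x * x⁻¹ := by rw [e]
    _ = 1 := mul_inv_cancel x

/-- The centralizer of the product fixes the pair. -/
theorem fix_pair {k : G} (hk : Commute (z * t) k) : k * z * k⁻¹ = z ∨ k * z * k⁻¹ = t := by
  classical
  obtain ⟨K, hKdef⟩ : ∃ K : Subgroup G, K = centralizer {z * t} := ⟨_, rfl⟩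
  have hmem : ∀ {a : G}, a ∈ K ↔ Commute (z * t) a := fun {a} => by
    rw [hKdef, mem_centralizer_singleton_iff]; exact ⟨fun h => h.symm, fun h => h.symm⟩
  have hzK : z ∈ K := hmem.2 ((Commute.refl z).mul_left p.ht.2.2.symm)
  have hwK : z * t ∈ K := hmem.2 (Commute.refl _)
  obtain ⟨W, hWdef⟩ : ∃ W : Subgroup K, W = zpowers (⟨z * t, hwK⟩ : K) := ⟨_, rfl⟩
  have hWc : ∀ a ∈ W, ∀ b : K, a * b = b * a := by
    rintro a ha b
    rw [hWdef] at ha
    obtain ⟨n, rfl⟩ := mem_zpowers_iff.1 ha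
    exact (Commute.zpow_left (show Commute (⟨z * t, hwK⟩ : K) b from Subtype.ext (hmem.1 b.2).eq) n).eq
  haveI hWn : W.Normal := ⟨fun a ha b => by rwa [← hWc a ha b, mul_inv_cancel_right]⟩
  have hw2 : orderOf (⟨z * t, hwK⟩ : K) = 2 := orderOf_eq_prime
    (by rw [pow_two]; exact Subtype.ext (S.mul_sq p.hz p.ht)) fun h => S.mul_ne_one p.ht (congrArg Subtype.val h)
  have hWcases : ∀ a ∈ W, (a : G) = 1 ∨ (a : G) = z * t := by
    intro a ha
    rw [hWdef, mem_zpowers_iff_mem_range_orderOf, hw2, show Finset.range 2 = {0, 1} from rfl] at ha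
    simp only [Finset.image_insert, pow_zero, Finset.image_singleton, pow_one, Finset.mem_insert,
      Finset.mem_singleton] at ha
    rcases ha with rfl | rfl
    exacts [Or.inl rfl, Or.inr rfl]
  obtain ⟨q, hqdef⟩ : ∃ q : K →* K ⧸ W, q = QuotientGroup.mk' W := ⟨_, rfl⟩
  have hq1 : ∀ {a : K}, q a = 1 ↔ a ∈ W := fun {a} => by rw [hqdef]; exact QuotientGroup.eq_one_iff a
  obtain ⟨zq, hzq⟩ : ∃ zq, zq = q ⟨z, hzK⟩ := ⟨_, rfl⟩
  have hz2 : orderOf zq = 2 := by
    refine orderOf_eq_prime ?_ fun h => ?_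
    · rw [hzq, ← map_pow, show (⟨z, hzK⟩ : K) ^ 2 = 1 from Subtype.ext (by rw [pow_two]; exact S.sq p.hz), map_one]
    · rcases hWcases _ (hq1.1 (hzq ▸ h)) with h1 | h1
      · exact S.ne_one p.hz h1
      · exact S.ne_one p.ht.1 (mul_eq_left.1 h1.symm)
  have hiso : IsIsolated zq := by
    intro g hg
    obtain ⟨a, rfl⟩ : ∃ a, q a = g := by rw [hqdef]; exact QuotientGroup.mk'_surjective W g
    subst hzq
    rw [← map_inv, ← map_mul, ← map_mul] at hg ⊢
    set ya : K := a * ⟨z, hzK⟩ * a⁻¹ with hya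
    have hy : (ya : G) = (a : G) * z * (a : G)⁻¹ := rfl
    have hyD : (ya : G) ∈ S.D := S.conj_mem _ z p.hz
    have hcz : Commute z (ya : G) := by
      have h1 : ⟨z, hzK⟩ * ya * ((ya * ⟨z, hzK⟩)⁻¹) ∈ W := hq1.1 (by
        rw [map_mul, map_inv]
        refine mul_inv_eq_one.2 ?_
        rw [map_mul q ⟨z, hzK⟩ ya, map_mul q ya ⟨z, hzK⟩]
        exact hg.eq)
      refine S.no_four p.hz hyD ?_
      have e : (z * ya) ^ 2 = ((⟨z, hzK⟩ * ya * ((ya * ⟨z, hzK⟩)⁻¹) : K) : G) := by
        show _ = z * (ya : G) * ((ya : G) * z)⁻¹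
        rw [pow_two, _root_.mul_inv_rev, S.inv_eq p.hz, S.inv_eq hyD]
      rw [show 4 = 2 * 2 from rfl, pow_mul, e]
      rcases hWcases _ h1 with h | h <;> rw [h]
      · rw [one_pow]
      · rw [pow_two]; exact S.mul_sq p.hz p.ht
    rcases p.conj_commute (hmem.1 a.2) hcz with h | h
    · exact congrArg q (Subtype.ext (hy.trans h))
    · have htW : q ya = q (⟨z, hzK⟩ * ⟨z * t, hwK⟩) := congrArg q <| Subtype.ext <| by
        show (ya : G) = z * (z * t)
        rw [← mul_assoc, S.sq p.hz, one_mul, hy, h]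
      have hw : (⟨z * t, hwK⟩ : K) ∈ W := by rw [hWdef]; exact mem_zpowers _
      rw [htW, map_mul, hq1.2 hw, mul_one]
  have hzs := BrauerSuzuki.zStar (K ⧸ W) zq hz2 hiso
  obtain ⟨M, hMdef⟩ : ∃ M : Subgroup K, M = (Cfsg.pPrimeCore 2 (K ⧸ W)).comap q := ⟨_, rfl⟩
  haveI : (Cfsg.pPrimeCore 2 (K ⧸ W)).Normal := FittingCores.pPrimeCore_normal 2
  haveI hMn : M.Normal := hMdef ▸ Normal.comap inferInstance q
  have hWM : W ≤ M := fun a ha => by rw [hMdef, mem_comap, hq1.2 ha]; exact one_mem _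
  obtain ⟨m, hm⟩ : ∃ m, m = (W.subgroupOf M).index := ⟨_, rfl⟩
  have hmodd : Odd m := by
    have hi : (W.subgroupOf M).index = Nat.card (M.map q) := by
      have hker : (q.comp M.subtype).ker = W.subgroupOf M := by
        ext a; rw [MonoidHom.mem_ker, MonoidHom.comp_apply, hq1]; rfl
      rw [← hker, Subgroup.index_ker, MonoidHom.range_comp, range_subtype]
    rw [Nat.odd_iff, ← Nat.two_dvd_ne_zero, hm]
    intro hd
    have h2 := (FittingCores.pPrimeCore_coprime (G := K ⧸ W) 2).symm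
    rw [show M.map q = Cfsg.pPrimeCore 2 (K ⧸ W) by
      rw [hMdef, map_comap_eq, hqdef, QuotientGroup.range_mk', top_inf_eq]] at hi
    exact Nat.prime_two.coprime_iff_not_dvd.1 h2 (hi ▸ hd)
  have hWcard : Nat.card (W.subgroupOf M) = 2 := by
    rw [Nat.card_congr (subgroupOfEquivOfLe hWM).toEquiv, hWdef, Nat.card_zpowers, hw2]
  obtain ⟨O, hO⟩ := Subgroup.exists_right_complement'_of_coprime (N := W.subgroupOf M)
    (by rw [hWcard, ← hm]; exact Nat.coprime_two_left.2 hmodd)
  have hOcard : Nat.card O = m := by rw [hm, hO.symm.index_eq_card]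
  have hchar : ∀ a : M, a ∈ O ↔ a ^ m = 1 := by
    intro a
    have hOm : ∀ o ∈ O, o ^ m = 1 := fun o ho => by
      have := pow_card_eq_one' (x := (⟨o, ho⟩ : O))
      rw [hOcard] at this
      exact congrArg Subtype.val this
    refine ⟨hOm a, fun ha => ?_⟩
    obtain ⟨⟨⟨u, hu⟩, ⟨o, ho⟩⟩, rfl⟩ := hO.2 a
    have hcomm : Commute u o := Subtype.ext (hWc u hu o)
    have hu2 : u ^ 2 = 1 := by
      have := pow_card_eq_one' (x := (⟨u, hu⟩ : W.subgroupOf M))
      rw [hWcard] at this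
      exact congrArg Subtype.val this
    simp only [hcomm.mul_pow, hOm o ho, mul_one] at ha
    have : u = 1 := by
      obtain ⟨r, hr⟩ := hmodd
      rw [hr, pow_succ, pow_mul, hu2, one_pow, one_mul] at ha
      exact ha
    simpa [this] using ho
  obtain ⟨N, hNdef⟩ : ∃ N : Subgroup G, N = (O.map M.subtype).map K.subtype := ⟨_, rfl⟩
  have hNodd : Odd (Nat.card N) := by
    rw [hNdef, card_map_of_injective K.subtype_injective, card_map_of_injective M.subtype_injective, hOcard]
    exact hmodd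
  have hNbot : N = ⊥ := by
    refine p.odd_bot hNodd (hKdef ▸ hNdef ▸ map_subtype_le _) ?_
    rw [← hKdef, hNdef]
    refine LargeExtra.normalizer_of_map_normal ⟨?_⟩
    rintro _ ⟨o, ho, rfl⟩ b
    refine ⟨⟨b * o * b⁻¹, hMn.conj_mem _ o.2 b⟩, (hchar _).2 (Subtype.ext ?_), rfl⟩
    show (b * (o : K) * b⁻¹) ^ m = 1
    rw [conj_pow, show (o : K) ^ m = 1 from congrArg Subtype.val ((hchar o).1 ho), mul_one, mul_inv_cancel]
  have hMW : M ≤ W := by
    intro a ha
    obtain ⟨⟨⟨u, hu⟩, ⟨o, ho⟩⟩, he⟩ := hO.2 ⟨a, ha⟩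
    have ho1 : o = 1 := by
      have hmem' : ((o : K) : G) ∈ N := hNdef ▸ ⟨(o : K), ⟨o, ho, rfl⟩, rfl⟩
      rw [hNbot, mem_bot] at hmem'
      exact Subtype.ext (Subtype.ext hmem')
    simp only [ho1, mul_one] at he
    have hua : (u : K) = a := congrArg Subtype.val he
    exact hua ▸ hu
  obtain ⟨a, ha⟩ : ∃ a : K, (a : G) = k := ⟨⟨k, hmem.2 hk⟩, rfl⟩
  have := hMW (show a * ⟨z, hzK⟩ * a⁻¹ * ⟨z, hzK⟩⁻¹ ∈ M by
    rw [hMdef, mem_comap, map_mul, map_mul, map_mul, map_inv, map_inv, ← hzq]; exact hzs (q a))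
  rcases hWcases _ this with h | h <;> simp only [coe_mul, InvMemClass.coe_inv, ha] at h
  · exact Or.inl (mul_inv_eq_one.1 h)
  · refine Or.inr ?_
    rw [mul_inv_eq_iff_eq_mul.1 h, p.ht.2.2.eq, mul_assoc, S.sq p.hz, mul_one]

/-- A member commuting with the product commutes with both. -/
theorem commute_left (hy : y ∈ S.D) (hyw : Commute (z * t) y) : Commute z y := by
  rcases p.fix_pair hyw with h | h
  · exact (mul_inv_eq_iff_eq_mul.1 h).symm
  · refine S.no_four p.hz hy ?_
    have e : (z * y) ^ 2 = z * t := by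
      rw [← h, pow_two, S.inv_eq hy]; group
    rw [show 4 = 2 * 2 from rfl, pow_mul, e, pow_two]
    exact S.mul_sq p.hz p.ht

end Pair

/-- Two members commute or have a product of odd order. -/
theorem commute_or_odd (hx : x ∈ S.D) (hy : y ∈ S.D) : Commute x y ∨ Odd (orderOf (x * y)) := by
  rcases Nat.even_or_odd (orderOf (x * y)) with ⟨m, hm⟩ | h
  · left
    have hpos := orderOf_pos (x * y)
    have hxx := S.sq hx
    have hyy := S.sq hy
    obtain ⟨r, hr⟩ : ∃ r, r = x * y := ⟨_, rfl⟩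
    rw [← hr] at hm hpos
    have hrx : x * r * x⁻¹ = r⁻¹ := by
      rw [hr, _root_.mul_inv_rev, S.inv_eq hx, S.inv_eq hy, ← mul_assoc, hxx, one_mul]
    have hry : y * r * y⁻¹ = r⁻¹ := by
      rw [hr, _root_.mul_inv_rev, S.inv_eq hx, S.inv_eq hy, mul_assoc, mul_assoc, hyy, mul_one]
    obtain ⟨u, hu⟩ : ∃ u, u = r ^ m := ⟨_, rfl⟩
    have hu2 : u * u = 1 := by rw [hu, ← pow_add, ← hm, pow_orderOf_eq_one]
    have hu1 : u ≠ 1 := fun h => by
      have := Nat.le_of_dvd (by omega) (orderOf_dvd_of_pow_eq_one (hu ▸ h))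
      omega
    have hui : u⁻¹ = u := inv_eq_of_mul_eq_one_right hu2
    have hux : Commute u x := by
      have : x * u * x⁻¹ = u := by rw [hu, ← conj_pow, hrx, inv_pow, ← hu, hui]
      exact (mul_inv_eq_iff_eq_mul.1 this).symm
    have huy : Commute u y := by
      have : y * u * y⁻¹ = u := by rw [hu, ← conj_pow, hry, inv_pow, ← hu, hui]
      exact (mul_inv_eq_iff_eq_mul.1 this).symm
    have heD : x * u ∈ S.D := by
      have key : ∀ j : ℕ, ∀ s : G, x * r * x⁻¹ = r⁻¹ → (r ^ j)⁻¹ * (x * s) * r ^ j = x * (r ^ j * s * r ^ j) := by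
        intro j s h
        have h' : x * r ^ j = (r ^ j)⁻¹ * x := by
          rw [← inv_pow, ← h, conj_pow, inv_mul_cancel_right]
        rw [← mul_assoc (r ^ j)⁻¹, ← h']; group
      rcases Nat.even_or_odd' m with ⟨j, rfl | rfl⟩
      · have e := key j 1 hrx
        rw [mul_one, mul_one, ← pow_add, ← two_mul, ← hu] at e
        rw [← e]
        simpa using S.conj_mem (r ^ j)⁻¹ x hx
      · have e := key j r hrx
        rw [← pow_succ, ← pow_add, show j + 1 + j = 2 * j + 1 by omega, ← hu,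
          show x * r = y by rw [hr, ← mul_assoc, hxx, one_mul]] at e
        rw [← e]
        simpa using S.conj_mem (r ^ j)⁻¹ y hy
    have he : x * u ∈ nbr S.D x :=
      ⟨heD, fun h => hu1 (mul_eq_left.1 h), (Commute.refl x).mul_right hux.symm⟩
    refine Pair.commute_left ⟨hx, he⟩ hy ?_
    rwa [← mul_assoc, hxx, one_mul]
  · exact Or.inr h

end Cfsg.Agent.U62Rec.Setting
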