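import Cfsg.Agent.Lib.U62Rec.Even

/-!
The commuting graph on the class: two members with a common neighbour have a product of order at most three,
their common neighbours are in bijection with the points, being at distance at most two is an equivalence
relation and a class has 693 members.
-/

set_option autoImplicit false
set_option linter.style.haveILetI false
set_option linter.unusedSectionVars false

namespace Cfsg.Agent.U62Rec.Setting

open Subgroup

universe u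

variable {G : Type u} [Group G] [Finite G] {P : Type} [Fintype P] [DecidableEq P] (S : Setting G P)
  {a b c d e f x y z t u v : G}

theorem sq_of_two (hd : d ∈ S.D) {r : G} {m : ℕ} (hm : 0 < m) (h : r ^ m ∈ S.J d) :
    ∃ k, orderOf r ∣ m * 2 ^ k := by
  obtain ⟨k, hk⟩ := S.J_two d hd ⟨r ^ m, h⟩
  refine ⟨k, orderOf_dvd_of_pow_eq_one ?_⟩
  rw [pow_mul]
  exact congrArg Subtype.val hk

theorem commute_of_same (hd : d ∈ S.D) (he : e ∈ nbr S.D d) (hf : f ∈ nbr S.D d)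
    (h : S.pt d e = S.pt d f ∨ S.adj (S.pt d e) (S.pt d f)) : Commute e f := by
  rcases S.commute_or_odd he.1 hf.1 with hc | hodd
  · exact hc
  · obtain ⟨k, hk⟩ := S.sq_of_two hd two_pos (S.pow_two_mem d hd e he f hf h)
    rw [← pow_succ'] at hk
    have := Nat.eq_one_of_dvd_coprimes ((Nat.coprime_two_left.2 hodd).symm.pow_right (k + 1)) dvd_rfl hk
    have he1 : e = f⁻¹ := eq_inv_of_mul_eq_one_left (orderOf_eq_one_iff.1 this)
    rw [he1, S.inv_eq hf.1]

theorem far_of_not (hd : d ∈ S.D) (he : e ∈ nbr S.D d) (hf : f ∈ nbr S.D d)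
    (h1 : S.pt d e ≠ S.pt d f) (h2 : ¬ S.adj (S.pt d e) (S.pt d f)) :
    ¬ Commute e f ∧ (e * f) ^ 3 = 1 := by
  obtain ⟨h3, hn⟩ := S.pow_three_mem d hd e he f hf h1 h2
  have hnc : ¬ Commute e f := fun hc => hn <| by
    have : (e * f) ^ 2 = 1 := by rw [hc.mul_pow, pow_two, pow_two, S.sq he.1, S.sq hf.1, one_mul]
    rwa [pow_succ, this, one_mul] at h3
  refine ⟨hnc, orderOf_dvd_iff_pow_eq_one.1 ?_⟩
  obtain ⟨k, hk⟩ := S.sq_of_two hd (by norm_num) h3
  exact Nat.Coprime.dvd_of_dvd_mul_right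
    ((Nat.coprime_two_left.2 ((S.commute_or_odd he.1 hf.1).resolve_left hnc)).symm.pow_right k) hk

theorem commute_iff (hd : d ∈ S.D) (he : e ∈ nbr S.D d) (hf : f ∈ nbr S.D d) :
    Commute e f ↔ S.pt d e = S.pt d f ∨ S.adj (S.pt d e) (S.pt d f) := by
  refine ⟨fun h => ?_, S.commute_of_same hd he hf⟩
  by_contra hn
  push Not at hn
  exact (S.far_of_not hd he hf hn.1 hn.2).1 h

/-- Members at distance at most two. -/
def Near (x y : G) : Prop := x ∈ S.D ∧ y ∈ S.D ∧ ∃ c ∈ S.D, Commute x c ∧ Commute c y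

theorem near_of_commute (hx : x ∈ S.D) (hy : y ∈ S.D) (h : Commute x y) : S.Near x y :=
  ⟨hx, hy, y, hy, h, Commute.refl y⟩

variable {S}

theorem Near.symm (h : S.Near x y) : S.Near y x := by
  obtain ⟨hx, hy, c, hc, h1, h2⟩ := h
  exact ⟨hy, hx, c, hc, h2.symm, h1.symm⟩

theorem Near.conj (h : S.Near x y) (g : G) : S.Near (g * x * g⁻¹) (g * y * g⁻¹) := by
  obtain ⟨hx, hy, c, hc, h1, h2⟩ := h
  exact ⟨S.conj_mem g x hx, S.conj_mem g y hy, g * c * g⁻¹, S.conj_mem g c hc,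
    h1.map (MulAut.conj g).toMonoidHom, h2.map (MulAut.conj g).toMonoidHom⟩

variable (S)

/-- The common neighbours. -/
def comm2 (z u : G) : Set G := {c | c ∈ nbr S.D z ∧ c ∈ nbr S.D u}

variable {S}

theorem Near.exists_common (h : S.Near z u) (hnc : ¬ Commute z u) :
    ∃ c ∈ S.D, z ∈ nbr S.D c ∧ u ∈ nbr S.D c := by
  obtain ⟨hz, hu, c, hc, h1, h2⟩ := h
  exact ⟨c, hc, ⟨hz, fun e => hnc (e ▸ h2), h1.symm⟩, ⟨hu, fun e => hnc (e ▸ h1), h2⟩⟩

theorem Near.pow_three (h : S.Near z u) (hnc : ¬ Commute z u) : (z * u) ^ 3 = 1 := by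
  obtain ⟨c, hc, hzc, huc⟩ := h.exists_common hnc
  have := (S.commute_iff hc hzc huc).not.1 hnc
  push Not at this
  exact (S.far_of_not hc hzc huc this.1 this.2).2

variable (S)

theorem comm2_injOn (hzD : z ∈ S.D) (hu : u ∈ S.D) (hnc : ¬ Commute z u) : Set.InjOn (S.pt u) (S.comm2 z u) := by
  rintro c ⟨hcz, hcu⟩ c' ⟨hcz', hcu'⟩ he
  by_contra hne
  have hcc : Commute c c' := S.line_comm u hu c hcu c' hcu' he
  have hz : z ∈ nbr S.D c := S.nbr_symm hzD hcz
  exact hnc <| (S.commute_iff hcu.1 hz (S.nbr_symm hu hcu)).2 <| by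
    rw [S.line_symm u hu c hcu c' hcu' hne he]
    exact (S.commute_iff hcu.1 hz ⟨hcu'.1, Ne.symm hne, hcc⟩).1 hcz'.2.2

theorem card_fibres (hd : d ∈ S.D) (R : Set P) :
    {e | e ∈ nbr S.D d ∧ S.pt d e ∈ R}.ncard = 4 * R.ncard := by
  classical
  haveI := Fintype.ofFinite G
  rw [Set.ncard_eq_toFinset_card', Set.ncard_eq_toFinset_card',
    Finset.card_eq_sum_card_fiberwise (f := S.pt d) (t := R.toFinset) (fun e he => by
      simp only [Finset.mem_coe, Set.mem_toFinset, Set.mem_ofPred_eq] at he ⊢; exact he.2)]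
  rw [Finset.sum_const_nat fun p hp => ?_, mul_comm]
  rw [← S.fibre_card d hd p, ← Set.ncard_coe_finset]
  congr 1
  ext e
  simp only [Finset.coe_filter, Set.mem_toFinset, Set.mem_ofPred_eq] at hp ⊢
  exact ⟨fun h => ⟨h.1.1, h.2⟩, fun h => ⟨⟨h.1, h.2 ▸ hp⟩, h.2⟩⟩

theorem card_nbr (hd : d ∈ S.D) : (nbr S.D d).ncard = 180 := by
  have := S.card_fibres hd Set.univ
  rwa [Set.ncard_univ, Nat.card_eq_fintype_card, S.card_P, show {e | e ∈ nbr S.D d ∧ S.pt d e ∈ Set.univ} = nbr S.D d by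
    ext; simp] at this

variable {S}

theorem Near.comm2_surj (h : S.Near z u) (hnc : ¬ Commute z u) (p : P) : ∃ c ∈ S.comm2 z u, S.pt u c = p := by
  classical
  obtain ⟨hz, hu, -⟩ := id h
  have hinj := S.comm2_injOn hz hu hnc
  suffices hS : S.pt u '' S.comm2 z u = Set.univ by exact (hS.ge (Set.mem_univ p))
  refine S.connected _ ?_ fun p q hp hq => ?_
  · obtain ⟨c, hc, hzc, huc⟩ := h.exists_common hnc
    exact ⟨_, c, ⟨S.nbr_symm hc hzc, S.nbr_symm hc huc⟩, rfl⟩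
  obtain ⟨c, ⟨hcz, hcu⟩, rfl⟩ := hp
  have hz' := S.nbr_symm hz hcz
  have hu' := S.nbr_symm hu hcu
  have hfar := (S.commute_iff hcz.1 hz' hu').not.1 hnc
  push Not at hfar
  obtain ⟨T, hT⟩ : ∃ T, T = {f | f ∈ nbr S.D c ∧
      S.pt c f ∈ {r | S.adj (S.pt c z) r ∧ S.adj (S.pt c u) r}} := ⟨_, rfl⟩
  have hTmem : ∀ f ∈ T, f ∈ S.comm2 z u := by
    intro f hf
    rw [hT] at hf
    obtain ⟨hf, h1, h2⟩ := hf
    exact ⟨⟨hf.1, fun e => S.adj_irrefl _ (e ▸ h1), S.commute_of_same hcz.1 hz' hf (Or.inr h1)⟩,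
      ⟨hf.1, fun e => S.adj_irrefl _ (e ▸ h2), S.commute_of_same hcz.1 hu' hf (Or.inr h2)⟩⟩
  have hsub : S.pt u '' T ⊆ {r | S.adj (S.pt u c) r} := by
    rintro _ ⟨f, hf, rfl⟩
    have hfn := hTmem f hf
    rw [hT] at hf
    refine ((S.commute_iff hu hcu hfn.2).1 hf.1.2.2).resolve_left fun e => ?_
    exact hf.1.2.1 (hinj hfn ⟨hcz, hcu⟩ e.symm)
  have heq := Set.eq_of_subset_of_ncard_le hsub (by
    rw [S.adj_card, (hinj.mono hTmem).ncard_image, hT, S.card_fibres hcz.1]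
    have := S.common _ _ hfar.1 hfar.2
    omega) (Set.toFinite _)
  obtain ⟨f, hf, rfl⟩ := heq.ge hq
  exact ⟨f, hTmem f hf, rfl⟩

theorem Near.card_comm2 (h : S.Near z u) (hnc : ¬ Commute z u) : (S.comm2 z u).ncard = 45 := by
  rw [← (S.comm2_injOn h.1 h.2.1 hnc).ncard_image,
    show S.pt u '' S.comm2 z u = Set.univ from Set.eq_univ_of_forall fun p => h.comm2_surj hnc p,
    Set.ncard_univ, Nat.card_eq_fintype_card, S.card_P]

theorem Near.step (h : S.Near z u) (hv : v ∈ nbr S.D u) : S.Near z v := by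
  by_cases hc : Commute z u
  · exact ⟨h.1, hv.1, u, h.2.1, hc, hv.2.2⟩
  obtain ⟨c, hcm, hp⟩ := h.comm2_surj hc (S.pt u v)
  exact ⟨h.1, hv.1, c, hcm.1.1, hcm.1.2.2, S.line_comm u h.2.1 c hcm.2 v hv hp⟩

theorem Near.trans (h : S.Near z u) (h' : S.Near u v) : S.Near z v := by
  obtain ⟨-, hv, c, hc, h1, h2⟩ := h'
  have hzc : S.Near z c := by
    by_cases e : c = u
    · exact e ▸ h
    · exact h.step ⟨hc, e, h1⟩
  by_cases e : v = c
  · exact e ▸ hzc
  · exact hzc.step ⟨hv, e, h2⟩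

variable (S)

/-- A class of the equivalence has 693 members. -/
theorem card_near (hz : z ∈ S.D) : {u | S.Near z u}.ncard = 693 := by
  classical
  haveI := Fintype.ofFinite G
  obtain ⟨F, hF⟩ : ∃ F : Finset G, F = Finset.univ.filter fun u => S.Near z u ∧ ¬ Commute z u := ⟨_, rfl⟩
  obtain ⟨N, hN⟩ : ∃ N : Finset G, N = (nbr S.D z).toFinset := ⟨_, rfl⟩
  have hNcard : N.card = 180 := by rw [hN, ← Set.ncard_eq_toFinset_card', S.card_nbr hz]
  have hcount : ∀ c ∈ N, (F.bipartiteAbove (fun c u => u ∈ nbr S.D c) c).card = 128 := by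
    intro c hc
    rw [hN, Set.mem_toFinset] at hc
    have hzc := S.nbr_symm hz hc
    have e : (↑(F.bipartiteAbove (fun c u => u ∈ nbr S.D c) c) : Set G) =
        {u | u ∈ nbr S.D c ∧ S.pt c u ∈ {r | r ≠ S.pt c z ∧ ¬ S.adj (S.pt c z) r}} := by
      ext u
      simp only [Finset.bipartiteAbove, hF, Finset.coe_filter, Finset.mem_filter, Finset.mem_univ, true_and,
        Set.mem_ofPred_eq]
      refine ⟨fun h => ⟨h.2, ?_⟩, fun h => ⟨⟨⟨hz, h.1.1, c, hc.1, hc.2.2, h.1.2.2⟩, ?_⟩, h.1⟩⟩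
      · have := (S.commute_iff hc.1 hzc h.2).not.1 h.1.2
        push Not at this
        exact ⟨this.1.symm, this.2⟩
      · rw [S.commute_iff hc.1 hzc h.1]
        exact not_or.2 ⟨h.2.1.symm, h.2.2⟩
    rw [← Set.ncard_coe_finset, e, S.card_fibres hc.1,
      show {r | r ≠ S.pt c z ∧ ¬ S.adj (S.pt c z) r} = (insert (S.pt c z) {r | S.adj (S.pt c z) r})ᶜ by
        ext r; simp,
      Set.ncard_compl, Set.ncard_insert_of_notMem (show S.pt c z ∉ {r | S.adj (S.pt c z) r} from S.adj_irrefl _), S.adj_card, Nat.card_eq_fintype_card, S.card_P]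
  have hcount2 : ∀ u ∈ F, (N.bipartiteBelow (fun c u => u ∈ nbr S.D c) u).card = 45 := by
    intro u hu
    rw [hF, Finset.mem_filter] at hu
    rw [← hu.2.1.card_comm2 hu.2.2, ← Set.ncard_coe_finset]
    congr 1
    ext c
    simp only [Finset.bipartiteBelow, hN, Finset.coe_filter, Set.mem_toFinset, Set.mem_ofPred_eq, comm2]
    exact ⟨fun h => ⟨h.1, S.nbr_symm h.1.1 h.2⟩, fun h => ⟨h.1, S.nbr_symm hu.2.1.2.1 h.2⟩⟩
  have h512 := Finset.sum_card_bipartiteAbove_eq_sum_card_bipartiteBelow (s := N) (t := F)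
    (fun c u => u ∈ nbr S.D c)
  rw [Finset.sum_const_nat hcount, Finset.sum_const_nat hcount2, hNcard] at h512
  have e : {u | S.Near z u} = insert z (nbr S.D z ∪ ↑F) := by
    ext u
    simp only [Set.mem_ofPred_eq, Set.mem_insert_iff, Set.mem_union, hF, Finset.coe_filter, Finset.mem_univ, true_and]
    constructor
    · intro h
      by_cases he : u = z
      · exact Or.inl he
      by_cases hc : Commute z u
      · exact Or.inr (Or.inl ⟨h.2.1, he, hc⟩)
      · exact Or.inr (Or.inr ⟨h, hc⟩)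
    · rintro (rfl | h | h)
      exacts [S.near_of_commute hz hz (Commute.refl _), S.near_of_commute hz h.1 h.2.2, h.1]
  have hd : Disjoint (nbr S.D z) (↑F : Set G) := by
    rw [Set.disjoint_left]
    intro u hu h
    simp only [hF, Finset.coe_filter, Finset.mem_univ, true_and, Set.mem_ofPred_eq] at h
    exact h.2 hu.2.2
  rw [e, Set.ncard_insert_of_notMem ?_ (Set.toFinite _), Set.ncard_union_eq hd, S.card_nbr hz,
    Set.ncard_coe_finset]
  · omega
  · rintro (h | h)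
    · exact h.2.1 rfl
    · simp [hF] at h

end Cfsg.Agent.U62Rec.Setting
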