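import Cfsg.Agent.Lib.U62Rec.ToSetting
import Cfsg.Agent.Lib.FischerPresented.U62Field
import Cfsg.Agent.Lib.S3342Id.AutBranch
import Cfsg.Agent.S0480
import Cfsg.Agent.S0280
import Cfsg.Agent.S0292
import Cfsg.Agent.S0301

/-!
The class generates a simple group, which Fischer's theorem and its order show to be the unitary group in
dimension six over four elements.
-/

set_option autoImplicit false
set_option linter.style.haveILetI false
set_option linter.unusedSectionVars false
set_option linter.unusedVariables false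

namespace Cfsg.Agent.U62Rec

open Subgroup LargeExtra
open scoped commutatorElement

universe u

theorem mem_conjOf {M : Type*} [Monoid M] {a b : M} : b ∈ conjugatesOf a ↔ IsConj a b := Iff.rfl

variable {G : Type u} [Group G] [Finite G] {P : Type} [Fintype P] [DecidableEq P] {Γ : Geo P}

theorem val_two {a b x y : ℕ} (hx : Odd x) (hy : Odd y) (h : 2 ^ a * x = 2 ^ b * y) : a = b := by
  have key : ∀ (c : ℕ) (w : ℕ), Odd w → (2 ^ c * w).factorization 2 = c := fun c w hw => by
    rw [Nat.factorization_mul (pow_ne_zero _ two_ne_zero) hw.pos.ne', Finsupp.add_apply,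
      Nat.Prime.factorization_pow Nat.prime_two, Finsupp.single_eq_same,
      Nat.factorization_eq_zero_of_not_dvd (by rw [Nat.two_dvd_ne_zero]; exact Nat.odd_iff.1 hw), add_zero]
  rw [← key a x hx, h, key b y hy]

theorem prod_odd {n : ℕ} (f : ℕ → ℕ) (h : ∀ i < n, Odd (f i)) : Odd (∏ i ∈ Finset.range n, f i) := by
  induction n with
  | zero => simp
  | succ n ih => rw [Finset.prod_range_succ]; exact (ih fun i hi => h i (by omega)).mul (h n (by omega))

/-- The groups of Fischer's list with the order of `U₆(2)`. -/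
theorem iso_of_card [IsSimpleGroup G] (hna : ∃ x y : G, x * y ≠ y * x) {D : Set G}
    (hD : Cfsg.IsThreeTranspositionClass D) (hc : Nat.card G = 9196830720)
    {K : Type*} [Field K] [Fintype K] (hK : Fintype.card K = 4) : Nonempty (G ≃* Cfsg.PSU 6 K 2) := by
  rcases S0480.result hna hD with ⟨n, ⟨e⟩⟩ | ⟨F, hF, hF', n, hF4, ⟨e⟩⟩ | ⟨m, ⟨e⟩⟩ | h | h
  · exfalso
    rw [Nat.card_congr e.toEquiv, S0245.result (ZMod.card 2) n] at hc
    have h15 := val_two (b := 15) (y := 280665) ?_ ⟨140332, rfl⟩ (hc.trans (by norm_num))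
    · rcases lt_or_ge n 4 with hn | hn
      · interval_cases n <;> norm_num at h15
      · nlinarith
    · refine prod_odd _ fun i _ => ?_
      exact Nat.Even.sub_odd Nat.one_le_two_pow ((Nat.even_pow).2 ⟨even_two, by omega⟩) odd_one
  · rcases lt_or_ge n 2 with hn | hn
    · exfalso
      obtain ⟨x, y, hxy⟩ := hna
      have hsub : Subsingleton (Matrix.SpecialLinearGroup (Fin n) F) := by
        refine ⟨fun A B => Subtype.ext (Matrix.ext fun i j => ?_)⟩
        interval_cases n
        · exact i.elim0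
        · have hA := A.2
          have hB := B.2
          rw [Matrix.det_fin_one] at hA hB
          rw [Subsingleton.elim i 0, Subsingleton.elim j 0, hA, hB]
      haveI : Subsingleton (Cfsg.PSU n F 2) := Function.Surjective.subsingleton (f := QuotientGroup.mk) Quotient.mk_surjective
      exact hxy (e.injective (Subsingleton.elim _ _))
    have h := S0280.result (q := 2) (by rw [hF4]; norm_num : Fintype.card F = 2 ^ 2) n hn
    rw [← Nat.card_congr e.toEquiv, hc] at h
    obtain ⟨Pr, hPr⟩ : ∃ Pr, Pr = ∏ i ∈ Finset.range n, if Even i then 2 ^ (i + 1) + 1 else 2 ^ (i + 1) - 1 := ⟨_, rfl⟩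
    rw [← hPr] at h
    have hPro : Odd Pr := by
      rw [hPr]
      refine prod_odd _ fun i _ => ?_
      have he : Even (2 ^ (i + 1)) := (Nat.even_pow).2 ⟨even_two, by omega⟩
      split_ifs
      · exact he.add_one
      · exact Nat.Even.sub_odd Nat.one_le_two_pow he odd_one
    have hg : Odd (Nat.gcd n 3) := by
      rcases (Nat.dvd_prime Nat.prime_three).1 (Nat.gcd_dvd_right n 3) with h | h <;> rw [h] <;> decide
    have h15 : n * (n - 1) / 2 = 15 := by
      refine (val_two (x := Pr) (y := Nat.gcd n 3 * (3 * 280665)) hPro (hg.mul (by decide)) ?_)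
      rw [← h]; ring
    have hn6 : n = 6 := by
      rcases lt_or_ge n 8 with hn8 | hn8
      · interval_cases n <;> first | rfl | norm_num at h15
      · exfalso
        have h56 : 56 ≤ n * (n - 1) := Nat.mul_le_mul hn8 (by omega : 7 ≤ n - 1)
        omega
    subst hn6
    obtain ⟨i1⟩ := FischerPresented.U62.nonempty_psu_six_model hF4
    obtain ⟨i2⟩ := FischerPresented.U62.nonempty_psu_six_model (F := K) hK
    exact ⟨e.trans (i1.trans i2.symm)⟩
  · exfalso
    rw [Nat.card_congr e.toEquiv] at hc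
    rcases lt_or_ge m 3 with hm | hm
    · by_cases h2 : m = 2
      · subst h2
        obtain ⟨i⟩ := S0301.result (F := ZMod 3) (by rw [ZMod.card]; decide)
        rw [Nat.card_congr i.toEquiv, S3342Id.card_psp_three (ZMod.card 3)] at hc
        norm_num at hc
      · have hle : Nat.card (Cfsg.POmega (ZMod 3) (Cfsg.quadFormOdd m (ZMod 3))) ≤
            Nat.card ((Unit ⊕ (Fin m ⊕ Fin m)) → (Unit ⊕ (Fin m ⊕ Fin m)) → ZMod 3) := by
          refine le_trans (Nat.card_le_card_of_surjective QuotientGroup.mk Quotient.mk_surjective) ?_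
          exact Nat.card_le_card_of_injective
            (fun g : Cfsg.Omega (ZMod 3) (Cfsg.quadFormOdd m (ZMod 3)) => fun i j => g.1.1.val i j)
            fun a b h => Subtype.ext (Subtype.ext (Units.ext h))
        simp only [hc, Nat.card_fun, Nat.card_sum, Nat.card_fin, Nat.card_unique, Nat.card_zmod] at hle
        interval_cases m <;> first | omega | norm_num at hle
    · have h := S0292.result (ZMod.card 3) (by decide) m hm
      rw [hc] at h
      have hd : 3 ^ (m ^ 2) ∣ 2 * 9196830720 := h ▸ Dvd.intro _ rfl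
      have : 3 ^ 9 ∣ 2 * 9196830720 := (pow_dvd_pow 3 (by nlinarith : 9 ≤ m ^ 2)).trans hd
      norm_num at this
  · exact absurd (hc.symm.trans h.2) (by norm_num)
  · exact absurd (hc.symm.trans h.2) (by norm_num)

namespace Fam

variable (F : Fam (G := G) Γ) {z : G}

/-- The class has order-three transposition products and generates a simple group of order 9196830720. -/
theorem iso (hnwc : ∀ d ∈ F.D, ∃ e, e ∈ nbr F.D d) (hz : z ∈ F.D)
    (hHcard : Nat.card ↥(centralizer ({z} : Set G)) = 13271040)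
    (hHsimple : ∀ N : Subgroup G, N ≤ centralizer {z} → centralizer {z} ≤ normalizer (N : Set G) →
      coreAt z ≤ N → N = coreAt z ∨ N = centralizer {z})
    {K : Type*} [Field K] [Fintype K] (hK : Fintype.card K = 4) : Nonempty (G ≃* Cfsg.PSU 6 K 2) := by
  classical
  haveI := Fintype.ofFinite G
  obtain ⟨S, hS⟩ : ∃ S : Setting G P, S = F.setting hnwc := ⟨_, rfl⟩
  have hSD : S.D = F.D := hS ▸ rfl
  have hzS : z ∈ S.D := hSD ▸ hz
  have hDeq : F.D = conjugatesOf z := by
    ext a
    constructor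
    · intro ha
      obtain ⟨g, hg⟩ := F.isConj z hz a ha
      exact isConj_iff.2 ⟨g, hg⟩
    · intro ha
      obtain ⟨g, rfl⟩ := isConj_iff.1 (mem_conjOf.1 ha)
      exact F.conj_mem g z hz
  obtain ⟨L, hL⟩ : ∃ L : Loc Γ z, L = F.loc z hz := ⟨_, rfl⟩
  obtain ⟨E, hE⟩ : ∃ E, E = closure F.D := ⟨_, rfl⟩
  have hDE : ∀ d ∈ F.D, d ∈ E := fun d hd => hE ▸ subset_closure hd
  haveI hEn : E.Normal := by
    rw [hE]
    refine ⟨fun a ha g => ?_⟩
    have : (closure F.D).map (MulAut.conj g).toMonoidHom ≤ closure F.D := by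
      rw [MonoidHom.map_closure, closure_le]
      rintro _ ⟨d, hd, rfl⟩
      exact subset_closure (F.conj_mem g d hd)
    exact this ⟨a, ha, rfl⟩
  -- the class is one class of the group it generates
  have hconj3 : ∀ x ∈ F.D, ∀ y ∈ F.D, ¬ Commute x y → ∃ k ∈ E, k * x * k⁻¹ = y := by
    intro x hx y hy hnc
    have h3 := (Setting.near_all (hSD ▸ hx : x ∈ S.D) (hSD ▸ hy)).pow_three hnc
    refine ⟨x * y, mul_mem (hDE x hx) (hDE y hy), ?_⟩
    rw [_root_.mul_inv_rev, F.invD hx, F.invD hy]
    calc x * y * x * (y * x) = (x * y) ^ 3 * y⁻¹ * y⁻¹ * (x * y) ^ 0 * y * 1 := by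
          simp [pow_succ, mul_assoc, F.invD hy, F.sqD hy]
      _ = y := by rw [h3, F.invD hy]; simp [F.sqD hy]
  have hfar : ∀ x ∈ F.D, {u | u ∈ F.D ∧ ¬ Commute x u}.ncard = 512 := by
    intro x hx
    have hxS : x ∈ S.D := hSD ▸ hx
    have e : F.D = insert x (nbr F.D x) ∪ {u | u ∈ F.D ∧ ¬ Commute x u} := by
      ext u
      simp only [Set.mem_union, Set.mem_insert_iff, Set.mem_ofPred_eq]
      refine ⟨fun hu => ?_, ?_⟩
      · by_cases hux : u = x
        · exact Or.inl (Or.inl hux)
        by_cases hc : Commute x u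
        exacts [Or.inl (Or.inr ⟨hu, hux, hc⟩), Or.inr ⟨hu, hc⟩]
      · rintro ((rfl | h) | h)
        exacts [hx, h.1, h.1]
    have hd : Disjoint (insert x (nbr F.D x)) {u | u ∈ F.D ∧ ¬ Commute x u} := by
      rw [Set.disjoint_left]
      rintro u (rfl | h) hu
      exacts [hu.2 (Commute.refl _), hu.2 h.2.2]
    have h693 : F.D.ncard = 693 := hSD ▸ Setting.card_D hxS
    have h180 : (nbr F.D x).ncard = 180 := hSD ▸ S.card_nbr hxS
    rw [e, Set.ncard_union_eq hd, Set.ncard_insert_of_notMem (fun h => h.2.1 rfl), h180] at h693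
    omega
  have htrans : ∀ y ∈ F.D, ∃ k ∈ E, k * z * k⁻¹ = y := by
    intro y hy
    by_cases hc : Commute z y
    · obtain ⟨u, hu1, hu2⟩ : ∃ u, u ∈ {u | u ∈ F.D ∧ ¬ Commute z u} ∧ u ∈ {u | u ∈ F.D ∧ ¬ Commute y u} := by
        by_contra hn
        push Not at hn
        have hd : Disjoint {u | u ∈ F.D ∧ ¬ Commute z u} {u | u ∈ F.D ∧ ¬ Commute y u} :=
          Set.disjoint_left.2 hn
        have h1 := Set.ncard_le_ncard (s := {u | u ∈ F.D ∧ ¬ Commute z u} ∪ {u | u ∈ F.D ∧ ¬ Commute y u})
          (t := F.D) (by rintro u (h | h) <;> exact h.1) (Set.toFinite _)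
        rw [Set.ncard_union_eq hd, hfar z hz, hfar y hy] at h1
        have h693 : F.D.ncard = 693 := hSD ▸ Setting.card_D hzS
        omega
      obtain ⟨k1, hk1, e1⟩ := hconj3 z hz u hu1.1 hu1.2
      obtain ⟨k2, hk2, e2⟩ := hconj3 u hu1.1 y hy fun h => hu2.2 h.symm
      exact ⟨k2 * k1, mul_mem hk2 hk1, by rw [← e2, ← e1]; group⟩
    · exact hconj3 z hz y hy hc
  -- the centralizer lies inside
  have hJE : coreAt z ≤ E := by
    have hrad : ∀ p, L.rad p ≤ E := by
      intro p
      obtain ⟨t, ht, htp⟩ := F.exists_lift hnwc hz p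
      obtain ⟨-, hRle, hR4, -, hsib⟩ := F.fibre hz ht htp
      rw [← hL] at hRle
      intro x hx
      have hzE := hDE z hz
      have hR : ∀ r ∈ coreAt z ⊓ coreAt t, r ∈ E := by
        intro r hr
        by_cases hr1 : r = 1
        · exact hr1 ▸ one_mem E
        obtain ⟨b, hb, e⟩ := hsib r hr hr1
        have h1 : t * (r * z) ∈ E := e ▸ hDE _ (F.conj_mem b t ht.1)
        have h2 := mul_mem (mul_mem (hDE t ht.1) h1) hzE
        rwa [← mul_assoc t t, F.sqD ht.1, one_mul, mul_assoc, F.sqD hz, mul_one] at h2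
      by_contra hxE
      obtain ⟨R, hRd⟩ : ∃ R, R = coreAt z ⊓ coreAt t := ⟨_, rfl⟩
      have hdj : Disjoint (R : Set G) ((fun c => c * z) '' (R : Set G)) := by
        rw [Set.disjoint_left]
        rintro a ha ⟨b, hb, rfl⟩
        have hmem : z ∈ coreAt z ⊓ coreAt t := hRd ▸ (by simpa using R.mul_mem (R.inv_mem hb) ha : z ∈ R)
        exact F.notMem' hz ht hmem.2
      have hsub : insert x ((R : Set G) ∪ (fun c => c * z) '' (R : Set G)) ⊆ (L.rad p : Set G) := by
        rintro a (rfl | ha | ⟨b, hb, rfl⟩)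
        exacts [hx, hRle (hRd ▸ ha), (L.rad p).mul_mem (hRle (hRd ▸ hb)) (L.z_mem_rad p)]
      have hle := Set.ncard_le_ncard hsub (Set.toFinite _)
      have h8 : (L.rad p : Set G).ncard = 8 := by rw [← Nat.card_coe_set_eq]; exact L.rad_card p
      have h4 : (R : Set G).ncard = 4 := by rw [← Nat.card_coe_set_eq, hRd]; exact hR4
      rw [Set.ncard_insert_of_notMem, Set.ncard_union_eq hdj,
        Set.ncard_image_of_injective _ (mul_left_injective z), h4, h8] at hle
      · omega
      · rintro (h | ⟨b, hb, e⟩)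
        · exact hxE (hR x (hRd ▸ h))
        · exact hxE (e ▸ mul_mem (hR b (hRd ▸ hb)) hzE)
    obtain ⟨U, hU⟩ : ∃ U : Finset G, U = Finset.univ.biUnion fun p => ((L.rad p : Set G).toFinset.filter
      fun x => x ∉ zpowers z) := ⟨_, rfl⟩
    have hUcard : U.card = 270 := by
      rw [hU, Finset.card_biUnion]
      · rw [Finset.sum_const_nat (m := 6), Finset.card_univ, Γ.card_P]
        · intro p _
          have e : (↑((L.rad p : Set G).toFinset.filter fun x => x ∉ zpowers z) : Set G) =
              (L.rad p : Set G) \ (zpowers z : Set G) := by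
            ext x; simp only [Finset.coe_filter, Set.mem_toFinset, Set.mem_sdiff, SetLike.mem_coe]; rfl
          rw [← Set.ncard_coe_finset, e, Set.ncard_sdiff (by
            intro x hx
            exact zpowers_le.2 (L.z_mem_rad p) hx), ← Nat.card_coe_set_eq, ← Nat.card_coe_set_eq]
          show Nat.card (L.rad p) - Nat.card (zpowers z) = 6
          rw [L.rad_card, Nat.card_zpowers, L.xs.toXSub.orderOf_eq]
      · intro p _ q _ hpq
        rw [Function.onFun, Finset.disjoint_left]
        intro x hx hx'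
        simp only [Finset.mem_filter, Set.mem_toFinset] at hx hx'
        exact hx.2 (L.rad_inf p q hpq x hx.1 hx'.1)
    obtain ⟨N, hN⟩ : ∃ N, N = coreAt z ⊓ E := ⟨_, rfl⟩
    have hUN : (↑U : Set G) ⊆ (N : Set G) := by
      intro x hx
      simp only [hU, Finset.coe_biUnion, Set.mem_iUnion, Finset.coe_filter, Set.mem_ofPred_eq, Set.mem_toFinset] at hx
      obtain ⟨p, -, hx, -⟩ := hx
      exact hN ▸ ⟨L.rad_le p hx, hrad p hx⟩
    have h270 := Set.ncard_le_ncard hUN (Set.toFinite _)
    rw [Set.ncard_coe_finset, hUcard, ← Nat.card_coe_set_eq] at h270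
    have hdvd : Nat.card N ∣ 2 ^ 9 := by
      have := card_dvd_of_le (hN ▸ inf_le_left : N ≤ coreAt z)
      rw [L.card] at this
      norm_num at this ⊢
      exact this
    obtain ⟨k, hk, hkeq⟩ := (Nat.dvd_prime_pow Nat.prime_two).1 hdvd
    have hk9 : k = 9 := by
      by_contra hne
      have : 2 ^ k ≤ 2 ^ 8 := Nat.pow_le_pow_right (by norm_num) (by omega)
      have h' : 270 ≤ Nat.card N := h270
      omega
    have hNeq : N = coreAt z := eq_of_le_of_card_ge (hN ▸ inf_le_left) (by rw [hkeq, hk9, L.card]; norm_num)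
    exact hNeq ▸ hN ▸ inf_le_right
  have hHE : centralizer {z} ≤ E := by
    obtain ⟨t, ht⟩ := hnwc z hz
    rcases hHsimple (E ⊓ centralizer {z}) inf_le_right
      (fun g hg => mem_normalizer_iff.2 fun a => by
        have h1 : a ∈ E ↔ g * a * g⁻¹ ∈ E := ⟨fun h => hEn.conj_mem a h g, fun h => by
          simpa [mul_assoc] using hEn.conj_mem _ h g⁻¹⟩
        have h2 := mem_normalizer_iff.1 (le_normalizer hg) a
        simp only [SetLike.mem_coe, mem_inf] at h2 ⊢
        rw [h1, h2])
      (le_inf hJE (coreAt_le z)) with h | h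
    · exfalso
      exact F.notMem hz ht (h ▸ ⟨hDE t ht.1, mem_centralizer_one.2 ht.2.2.eq.symm⟩)
    · exact h ▸ inf_le_left
  have hEtop : E = ⊤ := by
    refine (eq_top_iff' E).2 fun g => ?_
    obtain ⟨k, hk, e⟩ := htrans _ (F.conj_mem g z hz)
    have hkg : k⁻¹ * g ∈ centralizer {z} := mem_centralizer_one.2 <| by
      have : k⁻¹ * (k * z * k⁻¹) * g = k⁻¹ * (g * z * g⁻¹) * g := by rw [e]
      calc k⁻¹ * g * z = k⁻¹ * (g * z * g⁻¹) * g := by group
        _ = z * (k⁻¹ * g) := by rw [← this]; group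
    have := mul_mem hk (hHE hkg)
    rwa [mul_inv_cancel_left] at this
  have hgen : closure F.D = ⊤ := hE ▸ hEtop
  haveI hsimple : IsSimpleGroup G := by
    haveI : Nontrivial G := ⟨⟨z, 1, L.xs.toXSub.ne_one⟩⟩
    refine ⟨fun N hNn => ?_⟩
    by_cases hzN : z ∈ N
    · right
      refine top_le_iff.1 (hgen ▸ (closure_le N).2 fun d hd => ?_)
      obtain ⟨k, -, rfl⟩ := htrans d hd
      exact hNn.conj_mem z hzN k
    left
    have hNJ : ∀ x ∈ N, x ∈ coreAt z → x = 1 := by
      intro x hxN hxJ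
      by_contra hx1
      have hxz : x ≠ z := fun h => hzN (h ▸ hxN)
      obtain ⟨q, hq, e⟩ := L.xs.toXSub.exists_conj hxJ hx1 hxz
      have := mul_mem (inv_mem hxN) (hNn.conj_mem x hxN q)
      rw [e, inv_mul_cancel_left] at this
      exact hzN this
    have hfix : ∀ k ∈ N, z * k = k * z → k = 1 := by
      intro k hk hc
      have hkC : k ∈ centralizer (coreAt z : Set G) := mem_centralizer_iff.2 fun a ha => by
        have h1 : k * a * k⁻¹ * a⁻¹ = 1 := hNJ _ (by
          have := mul_mem hk (hNn.conj_mem _ (inv_mem hk) a)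
          simpa [mul_assoc] using this) ((coreAt z).mul_mem (L.conj_core hc ha) ((coreAt z).inv_mem ha))
        exact (mul_inv_eq_iff_eq_mul.1 (mul_inv_eq_one.1 h1)).symm
      rcases L.xs.toXSub.mem_zpowers_iff.1 (L.xs.cent hkC) with h | h
      · exact h
      · exact absurd (h ▸ hk) hzN
    have hinv : ∀ k ∈ N, z * k * z⁻¹ = k⁻¹ := fun k hk =>
      LargeExtra.conj_eq_inv L.sq (mem_normalizer_iff.2 fun a => ⟨fun h => hNn.conj_mem a h z, fun h => by
        simpa [mul_assoc] using hNn.conj_mem _ h z⁻¹⟩) hfix hk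
    obtain ⟨t, ht⟩ := hnwc z hz
    have hinvt : ∀ k ∈ N, t * k * t⁻¹ = k⁻¹ := by
      obtain ⟨c, -, rfl⟩ := htrans t ht.1
      intro k hk
      have hk' : c⁻¹ * k * c ∈ N := by simpa using hNn.conj_mem k hk c⁻¹
      calc c * z * c⁻¹ * k * (c * z * c⁻¹)⁻¹ = c * (z * (c⁻¹ * k * c) * z⁻¹) * c⁻¹ := by group
        _ = k⁻¹ := by rw [hinv _ hk']; group
    refine (eq_bot_iff_forall _).2 fun k hk => ?_
    have p : Setting.Pair S z t := ⟨hzS, hSD.symm ▸ ht⟩
    have hc : Commute (z * t) k := by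
      have : z * t * k * (z * t)⁻¹ = k := by
        calc z * t * k * (z * t)⁻¹ = z * (t * k * t⁻¹) * z⁻¹ := by group
          _ = k := by rw [hinvt k hk, hinv _ (inv_mem hk), inv_inv]
      exact mul_inv_eq_iff_eq_mul.1 this
    have hk2 : k * z * k⁻¹ = k * k * z := by
      calc k * z * k⁻¹ = k * (z * k⁻¹ * z⁻¹) * z := by group
        _ = k * k * z := by rw [show z * k⁻¹ * z⁻¹ = (z * k * z⁻¹)⁻¹ by group, hinv k hk, inv_inv]
    rcases p.fix_pair hc with h | h
    · refine hfix k hk ?_
      exact (mul_inv_eq_iff_eq_mul.1 h).symm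
    · exfalso
      have htz : t * z ∈ N := by
        have : k * k = t * z := by
          rw [hk2] at h
          rw [← h, mul_assoc, L.sq, mul_one]
        exact this ▸ mul_mem hk hk
      have h1 := hfix _ htz (by rw [← mul_assoc, ht.2.2.eq])
      exact ht.2.1 ((eq_inv_of_mul_eq_one_left h1).trans (F.invD hz))
  have hna : ∃ x y : G, x * y ≠ y * x := by
    obtain ⟨u, hu⟩ : ({u | u ∈ F.D ∧ ¬ Commute z u}).Nonempty :=
      Set.nonempty_of_ncard_ne_zero (by rw [hfar z hz]; norm_num)
    exact ⟨z, u, hu.2⟩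
  have hclass : Cfsg.IsThreeTranspositionClass F.D := by
    refine ⟨⟨fun d hd => (F.loc d hd).xs.toXSub.orderOf_eq, fun a ha b hb => ?_⟩, ⟨z, hz, hDeq⟩, hgen⟩
    by_cases hc : Commute a b
    · left
      rw [pow_two, hc.symm.mul_mul_mul_comm, F.sqD ha, F.sqD hb, one_mul]
    · exact Or.inr ((Setting.near_all (hSD ▸ ha : a ∈ S.D) (hSD ▸ hb)).pow_three hc)
  refine iso_of_card hna hclass ?_ hK
  have horb : Nat.card (MulAction.orbit (ConjAct G) z) = 693 := by
    rw [Nat.card_coe_set_eq, ← Setting.card_D hzS, hSD]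
    congr 1
    ext a
    rw [ConjAct.mem_orbit_conjAct, hDeq, mem_conjOf]
    exact ⟨IsConj.symm, IsConj.symm⟩
  have hmul := Nat.card_congr (MulAction.orbitProdStabilizerEquivGroup (ConjAct G) z)
  rw [Nat.card_prod, horb] at hmul
  have hst : Nat.card (MulAction.stabilizer (ConjAct G) z) = Nat.card ↥(centralizer ({z} : Set G)) := by
    refine Nat.card_congr (ConjAct.toConjAct.symm.toEquiv.subtypeEquiv fun g => ?_)
    rw [MulAction.mem_stabilizer_iff, mem_centralizer_one]
    show ConjAct.ofConjAct g * z * (ConjAct.ofConjAct g)⁻¹ = z ↔ _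
    exact mul_inv_eq_iff_eq_mul
  rw [hst, hHcard] at hmul
  rw [Nat.card_congr (ConjAct.toConjAct (G := G)).toEquiv, ← hmul]

end Fam

end Cfsg.Agent.U62Rec
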