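import Cfsg.Agent.Lib.U62Rec.Weak

/-!
A member commuting with `z` induces a transvection on the quotient of the centralizer of `z` by its core.
-/

set_option autoImplicit false
set_option linter.style.haveILetI false
set_option linter.unusedSectionVars false
set_option linter.unusedVariables false

namespace Cfsg.Agent.U62Rec.Fam

open Subgroup LargeExtra
open scoped commutatorElement

variable {G : Type*} [Group G] [Finite G] {P : Type} [Fintype P] [DecidableEq P] {Γ : Geo P} (F : Fam (G := G) Γ)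
  {z t : G}

/-- The image of a neighbour is a transvection. -/
theorem exists_tr (hz : z ∈ F.D) (ht : t ∈ nbr F.D z) : ∃ p, (F.loc z hz).perm t = Γ.tr p := by
  classical
  by_contra hno
  push Not at hno
  obtain ⟨L, hL⟩ : ∃ L : Loc Γ z, L = F.loc z hz := ⟨_, rfl⟩
  rw [← hL] at hno
  obtain ⟨L', -⟩ : ∃ L' : Loc Γ t, L' = F.loc t ht.1 := ⟨_, rfl⟩
  have htt := F.sqD ht.1
  have hti := F.invD ht.1
  have hzt : Commute z t := ht.2.2
  have htJ := F.notMem hz ht
  have hlift : ∀ a ∈ coreAt z, ⁅t, a⁆ ∈ zpowers z →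
      Commute t a ∧ a * a = 1 ∧ ∃ b ∈ coreAt z, a = ⁅t, b⁆ ∨ a = ⁅t, b⁆ * z := by
    intro a ha hc
    obtain ⟨h2, b, hb, hab⟩ := L.other_comm t hzt htt htJ hno a ha hc
    refine ⟨?_, h2, b, hb, hab⟩
    have key : ⁅t, b⁆ * ⁅t, b⁆ = 1 → Commute t ⁅t, b⁆ := fun hcc => by
      have hci : ⁅t, b⁆⁻¹ = ⁅t, b⁆ := inv_eq_of_mul_eq_one_right hcc
      have e : t * ⁅t, b⁆ * t⁻¹ = ⁅t, b⁆⁻¹ := by
        simp [commutatorElement_def, hti, mul_assoc, ← mul_assoc t t, htt]
      rw [hci] at e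
      exact mul_inv_eq_iff_eq_mul.1 e
    have hcm := L.commutator_mem hzt hb
    rcases hab with e | e
    · exact e ▸ key (e ▸ h2)
    · have hcz : Commute ⁅t, b⁆ z := (L.comm hcm).symm
      refine e ▸ (key ?_).mul_right hzt.symm
      rw [e, hcz.symm.mul_mul_mul_comm, L.sq, mul_one] at h2
      exact h2
  obtain ⟨N, hN⟩ : ∃ N, N = coreAt z ⊓ centralizer {t} := ⟨_, rfl⟩
  obtain ⟨R, hR⟩ : ∃ R, R = coreAt z ⊓ coreAt t := ⟨_, rfl⟩
  have hNmem : ∀ {a : G}, a ∈ N ↔ a ∈ coreAt z ∧ Commute t a := fun {a} => by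
    rw [hN, mem_inf, mem_centralizer_one]; exact ⟨fun h => ⟨h.1, h.2.symm⟩, fun h => ⟨h.1, h.2.symm⟩⟩
  have hset : {a | a ∈ coreAt z ∧ ⁅t, a⁆ ∈ zpowers z} = (N : Set G) := by
    ext a
    simp only [Set.mem_ofPred_eq, SetLike.mem_coe, hNmem]
    exact ⟨fun h => ⟨h.1, (hlift a h.1 h.2).1⟩,
      fun h => ⟨h.1, by rw [commutatorElement_eq_one_iff_commute.2 h.2]; exact one_mem _⟩⟩
  have hN32 : 32 ≤ Nat.card N := by
    have h1 := L.other_card t hzt htt htJ hno
    rw [hset] at h1
    rw [← Nat.card_coe_set_eq] at h1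
    exact h1
  have hNsq : ∀ a ∈ N, a * a = 1 := fun a ha => by
    obtain ⟨h1, h2⟩ := hNmem.1 ha
    exact (hlift a h1 (by rw [commutatorElement_eq_one_iff_commute.2 h2]; exact one_mem _)).2.1
  have himg := L'.elem_le N (hN ▸ inf_le_right) fun a ha => by rw [hNsq a ha]; exact one_mem _
  have hcard := L'.card_image fun a (ha : a ∈ N) => (hNmem.1 ha).2
  obtain ⟨r, hr, hr1⟩ : ∃ r ∈ R, r ≠ 1 := by
    by_contra hc
    push Not at hc
    have hb : N ⊓ coreAt t = ⊥ := (eq_bot_iff_forall _).2 fun a ha => hc a (hR ▸ ⟨(hNmem.1 ha.1).1, ha.2⟩)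
    rw [hb, Subgroup.card_bot, mul_one] at hcard
    omega
  have hzR : z ∉ R := fun h => F.notMem' hz ht (hR ▸ h : z ∈ coreAt z ⊓ coreAt t).2
  have hRform : ∀ r ∈ R, r ≠ 1 → ∃ b ∈ coreAt z, r = ⁅t, b⁆ * z ∧ ⁅t, b⁆ ≠ 1 := by
    intro r hr hr1
    have hr' : r ∈ coreAt z ⊓ coreAt t := hR ▸ hr
    have hcr : Commute t r := L'.comm hr'.2
    obtain ⟨-, -, b, hb, e | e⟩ := hlift r hr'.1 (by rw [commutatorElement_eq_one_iff_commute.2 hcr]; exact one_mem _)
    · exact absurd (e.trans (F.commutator_one hz ht (e ▸ hr'))) hr1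
    · exact ⟨b, hb, e, fun h => hzR (by rwa [e, h, one_mul] at hr)⟩
  have htz : t * z ∉ F.D := fun htz => by
    obtain ⟨b, hb, e, -⟩ := hRform r hr hr1
    exact hr1 (e.trans (F.commutator_z hz ht hb htz (e ▸ hR ▸ hr)))
  have hzc : ∀ {a : G}, a ∈ coreAt z → Commute a z := fun ha => (L.comm ha).symm
  have hRz : ∀ {a : G}, a ∈ R → a ∈ coreAt z := fun ha => (hR ▸ ha : _ ∈ coreAt z ⊓ coreAt t).1
  let W : Subgroup G :=
    { carrier := {x | x ∈ R ∨ x * z ∈ R}
      one_mem' := Or.inl (one_mem R)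
      mul_mem' := by
        rintro a b (ha | ha) (hb | hb)
        · exact Or.inl (mul_mem ha hb)
        · exact Or.inr (by rw [mul_assoc]; exact mul_mem ha hb)
        · refine Or.inr ?_
          rw [mul_assoc, (hzc (hRz hb)).eq, ← mul_assoc]
          exact mul_mem ha hb
        · refine Or.inl ?_
          have e : a * z * (b * z) = a * b := by
            have hbz : Commute (b * z) z := hzc (hRz hb)
            rw [mul_assoc a z, ← hbz.eq, mul_assoc b, L.sq, mul_one]
          exact e ▸ mul_mem ha hb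
      inv_mem' := by
        rintro a (ha | ha)
        · exact Or.inl (inv_mem ha)
        · refine Or.inr ?_
          have h1 := inv_mem ha
          rw [_root_.mul_inv_rev, inv_eq_of_mul_eq_one_right L.sq] at h1
          have haz : Commute z a⁻¹ := by
            have h2 := (hzc (hRz ha)).symm.mul_right (Commute.refl z)
            rw [mul_assoc, L.sq, mul_one] at h2
            exact h2.inv_right
          rwa [← haz.eq] }
  have hWmem : ∀ {a : G}, a ∈ W ↔ a ∈ R ∨ a * z ∈ R := Iff.rfl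
  have hzW : z ∈ W := hWmem.2 (Or.inr (by rw [L.sq]; exact one_mem _))
  have hWle : W ≤ coreAt z := fun a ha => by
    rcases hWmem.1 ha with h | h
    · exact hRz h
    · simpa [mul_assoc, L.sq] using mul_mem (hRz h) L.xs.mem
  have hWt : ∀ a ∈ W, Commute t a := fun a ha => by
    rcases hWmem.1 ha with h | h
    · exact L'.comm (hR ▸ h : a ∈ coreAt z ⊓ coreAt t).2
    · have := (L'.comm (hR ▸ h : a * z ∈ coreAt z ⊓ coreAt t).2).mul_right hzt.symm
      rwa [mul_assoc, L.sq, mul_one] at this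
  have hWJ : ∀ b ∈ coreAt z, ∀ a ∈ W, b * a * b⁻¹ ∈ W := fun b hb a ha => by
    rcases L.xs.toXSub.conj_cases hb (hWle ha) with e | e <;> rw [e]
    exacts [ha, mul_mem ha hzW]
  have hWnorm : ∀ g : G, Commute z g → Commute (L.perm g) (L.perm t) → g ∈ normalizer (W : Set G) := by
    intro g hg hgt
    obtain ⟨t', ht'⟩ : ∃ t', t' = g * t * g⁻¹ := ⟨_, rfl⟩
    have ht'D : t' ∈ F.D := ht' ▸ F.conj_mem g t ht.1
    have hzt' : Commute z t' := ht' ▸ (hg.mul_right hzt).mul_right hg.inv_right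
    have hpt' : L.perm t' = L.perm t := by
      rw [ht', L.perm_mul _ _ (hg.mul_right hzt) hg.inv_right, L.perm_mul _ _ hg hzt, hgt.eq, mul_assoc,
        ← L.perm_mul _ _ hg hg.inv_right, mul_inv_cancel, L.perm_one, mul_one]
    have hj : t * t' ∈ coreAt z := (L.perm_eq_one _ (hzt.mul_right hzt')).1 <| by
      rw [L.perm_mul _ _ hzt hzt', hpt', ← L.perm_mul _ _ hzt hzt, htt, L.perm_one]
    have ht't := F.sqD ht'D
    have hcj : ⁅t, t * t'⁆ ∈ zpowers z := by
      have e : ⁅t, t * t'⁆ = ((t * t') * (t * t'))⁻¹ := by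
        simp [commutatorElement_def, hti, F.invD ht'D, mul_assoc, ← mul_assoc t t, htt]
      rw [e]
      refine inv_mem ?_
      rcases L.xs.toXSub.sq_cases hj with h | h <;> rw [h]
      exacts [one_mem _, mem_zpowers z]
    obtain ⟨hct, -, b, hb, e | e⟩ := hlift _ hj hcj
    swap
    · exfalso
      have h1 : t' = b * (t * z) * b⁻¹ := by
        calc t' = t * (t * t') := by rw [← mul_assoc, htt, one_mul]
          _ = t * ⁅t, b⁆ * z := by rw [e, mul_assoc]
          _ = b * (t * z) * b⁻¹ := by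
            rw [← F.conj_eq hz ht b, mul_assoc, ← (hzc (inv_mem hb)).eq.symm]
            simp [mul_assoc, ((L.comm hb).inv_right).eq]
      exact htz (by simpa [h1, mul_assoc] using F.conj_mem b⁻¹ t' ht'D)
    have h1 : t' = b * t * b⁻¹ := by
      rw [F.conj_eq hz ht b, ← e, ← mul_assoc, htt, one_mul]
    have hbg : Commute t (b⁻¹ * g) := by
      show t * (b⁻¹ * g) = b⁻¹ * g * t
      have e2 : b * t * b⁻¹ * g = g * t := by rw [← h1, ht', inv_mul_cancel_right]
      rw [mul_assoc b⁻¹, ← e2]; group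
    have hbgz : Commute z (b⁻¹ * g) := ((L.comm hb).inv_right).mul_right hg
    refine mem_normalizer_of_conj (S := closure {b, b⁻¹ * g}) ?_ ?_
    · intro k hk
      induction hk using closure_induction with
      | mem k hk =>
        rcases hk with rfl | rfl
        · exact hWJ k hb
        · intro a ha
          have hcon : ∀ x ∈ R, b⁻¹ * g * x * (b⁻¹ * g)⁻¹ ∈ R := fun x hx => by
            rw [hR] at hx ⊢
            exact ⟨L.conj_core hbgz hx.1, L'.conj_core hbg hx.2⟩
          rcases hWmem.1 ha with h | h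
          · exact hWmem.2 (Or.inl (hcon a h))
          · refine hWmem.2 (Or.inr ?_)
            have := hcon _ h
            rwa [show b⁻¹ * g * (a * z) * (b⁻¹ * g)⁻¹ = b⁻¹ * g * a * (b⁻¹ * g)⁻¹ * z by
              simp only [mul_assoc]; rw [(hbgz.inv_right).eq]] at this
      | one => intro a ha; simpa using ha
      | mul k l _ _ hk hl =>
        intro a ha
        have := hk _ (hl a ha)
        rwa [show k * (l * a * l⁻¹) * k⁻¹ = k * l * a * (k * l)⁻¹ by group] at this
      | inv k hk' hk =>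
        intro a ha
        have hpow : ∀ n : ℕ, ∀ x ∈ W, k ^ n * x * (k ^ n)⁻¹ ∈ W := by
          intro n
          induction n with
          | zero => intro x hx; simpa using hx
          | succ n ih =>
            intro x hx
            have := hk _ (ih x hx)
            rwa [show k * (k ^ n * x * (k ^ n)⁻¹) * k⁻¹ = k ^ (n + 1) * x * (k ^ (n + 1))⁻¹ by
              rw [pow_succ']; group] at this
        have hk1 : k⁻¹ = k ^ (orderOf k - 1) := by
          refine inv_eq_of_mul_eq_one_right ?_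
          rw [← pow_succ', Nat.sub_add_cancel (orderOf_pos k), pow_orderOf_eq_one]
        rw [hk1]
        exact hpow _ a ha
    · have hgm : b * (b⁻¹ * g) ∈ closure ({b, b⁻¹ * g} : Set G) :=
        mul_mem (Subgroup.subset_closure (Or.inl rfl)) (Subgroup.subset_closure (Or.inr rfl))
      rwa [mul_inv_cancel_left] at hgm
  obtain ⟨a, ha, b, hb, haW, hbW, haz, hbz, habz, hab⟩ := L.other_pair t hzt htt htJ hno W hWle hzW
    ⟨r, hWmem.2 (Or.inl hr), fun h => (L.xs.toXSub.mem_zpowers_iff.1 h).elim hr1 fun h => hzR (h ▸ hr)⟩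
    (fun x hx => by rw [commutatorElement_eq_one_iff_commute.2 (hWt x hx)]; exact one_mem _) hWnorm
  have hcase : ∀ c, ⁅t, c⁆ ∈ W → ⁅t, c⁆ ∉ zpowers z → ⁅t, c⁆ * z ∈ R := fun c hc hcz => by
    rcases hWmem.1 hc with h | h
    · exact absurd (F.commutator_one hz ht (hR ▸ h) ▸ one_mem _) hcz
    · exact h
  have hprod : ⁅t, a * b⁆ = ⁅t, a⁆ * ⁅t, b⁆ := by
    have : ⁅t, a * b⁆ = ⁅t, a⁆ * (a * ⁅t, b⁆ * a⁻¹) := by simp [commutatorElement_def, mul_assoc]
    rw [this, hab.eq, mul_inv_cancel_right]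
  have hRR : ⁅t, a * b⁆ ∈ R := by
    have h1 := mul_mem (hcase a haW haz) (hcase b hbW hbz)
    rwa [mul_assoc, ← mul_assoc z, ← (hzc (L.commutator_mem hzt hb)).eq, mul_assoc ⁅t, b⁆, L.sq, mul_one,
      ← hprod] at h1
  exact habz (hprod ▸ F.commutator_one hz ht (hR ▸ hRR) ▸ one_mem _)

end Cfsg.Agent.U62Rec.Fam
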