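import Mathlib

/-!
The local data for the recognition of the unitary group in dimension six over four elements by the
centralizer of an involution: a class `D` of involutions, for every member `d` a normal 2-subgroup `J d`
of its centralizer, and the action of the quotient on the 45 points of a generalised quadrangle, the
members of `D` commuting with `d` lying four over every point.
-/

set_option autoImplicit false

namespace Cfsg.Agent.U62Rec

variable {G : Type*} [Group G]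

/-- The members of `D` different from `d` commuting with it. -/
def nbr (D : Set G) (d : G) : Set G := {e | e ∈ D ∧ e ≠ d ∧ Commute d e}

/-- The local data. -/
structure Setting (G : Type*) [Group G] (P : Type) [Fintype P] [DecidableEq P] where
  /-- The class. -/
  D : Set G
  /-- The 2-core of the centralizer. -/
  J : G → Subgroup G
  /-- The point under a neighbour. -/
  pt : G → G → P
  /-- The action of the centralizer on the points. -/
  perm : G → G → Equiv.Perm P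
  /-- The orthogonality of points. -/
  adj : P → P → Prop
  /-- The permutations of involutions. -/
  invs : Finset (Equiv.Perm P)
  invol : ∀ d ∈ D, orderOf d = 2
  conj_mem : ∀ (g : G), ∀ d ∈ D, g * d * g⁻¹ ∈ D
  mem_J : ∀ d ∈ D, d ∈ J d
  J_comm : ∀ d ∈ D, ∀ g ∈ J d, Commute d g
  J_two : ∀ d ∈ D, IsPGroup 2 (J d)
  J_invol : ∀ d ∈ D, ∀ r ∈ J d, r * r = 1 → r ≠ 1 → r ≠ d →
    ∃ a ∈ D, ∃ b ∈ nbr D a, r = a * b
  perm_mul : ∀ d ∈ D, ∀ g h : G, Commute d g → Commute d h → perm d (g * h) = perm d g * perm d h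
  perm_eq_one : ∀ d ∈ D, ∀ g : G, Commute d g → (perm d g = 1 ↔ g ∈ J d)
  perm_invs : ∀ d ∈ D, ∀ g : G, Commute d g → g * g = 1 → g ∉ J d → perm d g ∈ invs
  invs_card : invs.card ≤ 315
  fix_card : ∀ s ∈ invs, (Finset.univ.filter fun p => s p = p).card ≤ 13
  fix_far : ∀ s ∈ invs, ∀ p, s p = p → {q | s q = q ∧ q ≠ p ∧ ¬ adj p q}.ncard ≤ 8
  perm_adj : ∀ d ∈ D, ∀ g : G, Commute d g → ∀ p q, adj (perm d g p) (perm d g q) ↔ adj p q
  card_P : Fintype.card P = 45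
  adj_symm : ∀ p q, adj p q → adj q p
  adj_irrefl : ∀ p, ¬ adj p p
  adj_card : ∀ p, {q | adj p q}.ncard = 12
  common : ∀ p q, p ≠ q → ¬ adj p q → 3 ≤ {r | adj p r ∧ adj q r}.ncard
  connected : ∀ S : Set P, S.Nonempty → (∀ p q, p ∈ S → adj p q → q ∈ S) → S = Set.univ
  pt_conj : ∀ d ∈ D, ∀ g : G, Commute d g → ∀ e ∈ nbr D d, pt d (g * e * g⁻¹) = perm d g (pt d e)
  fibre_card : ∀ d ∈ D, ∀ p, {e | e ∈ nbr D d ∧ pt d e = p}.ncard = 4
  pow_two_mem : ∀ d ∈ D, ∀ e ∈ nbr D d, ∀ f ∈ nbr D d, pt d e = pt d f ∨ adj (pt d e) (pt d f) →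
    (e * f) ^ 2 ∈ J d
  pow_three_mem : ∀ d ∈ D, ∀ e ∈ nbr D d, ∀ f ∈ nbr D d, pt d e ≠ pt d f → ¬ adj (pt d e) (pt d f) →
    (e * f) ^ 3 ∈ J d ∧ e * f ∉ J d
  line_conj : ∀ (g : G), ∀ d ∈ D, ∀ e ∈ nbr D d, ∀ f ∈ nbr D d, pt d e = pt d f →
    pt (g * d * g⁻¹) (g * e * g⁻¹) = pt (g * d * g⁻¹) (g * f * g⁻¹)
  perm_fix : ∀ d ∈ D, ∀ e ∈ nbr D d, ∀ f ∈ nbr D d, pt d e = pt d f ∨ adj (pt d e) (pt d f) →
    perm d e (pt d f) = pt d f
  line_comm : ∀ d ∈ D, ∀ e ∈ nbr D d, ∀ f ∈ nbr D d, pt d e = pt d f → Commute e f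
  line_symm : ∀ d ∈ D, ∀ e ∈ nbr D d, ∀ f ∈ nbr D d, e ≠ f → pt d e = pt d f → pt e d = pt e f
  mul_not_mem : ∀ d ∈ D, ∀ e ∈ nbr D d, d * e ∉ D
  mul_unique : ∀ d ∈ D, ∀ e ∈ nbr D d, ∀ f ∈ nbr D d, Commute e f → d * e * f ∈ D → e = f
  /-- The product of two members of a fibre determines the fibre. -/
  line_prod : ∀ d ∈ D, ∀ e ∈ nbr D d, ∀ e' ∈ nbr D d, ∀ f ∈ nbr D d, ∀ f' ∈ nbr D d,
    e ≠ e' → pt d e = pt d e' → pt d f = pt d f' → e * e' = f * f' → pt d e = pt d f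
  /-- The five members of a line have product one. -/
  line_five : ∀ d ∈ D, ∀ a ∈ nbr D d, ∀ b ∈ nbr D d, ∀ c ∈ nbr D d, ∀ e ∈ nbr D d,
    a ≠ b → a ≠ c → a ≠ e → b ≠ c → b ≠ e → c ≠ e →
    pt d a = pt d b → pt d a = pt d c → pt d a = pt d e → d * a * b * c * e = 1
  odd_trivial : ∀ d ∈ D, ∀ e ∈ nbr D d, ∀ N : Subgroup G, Odd (Nat.card N) →
    N ≤ Subgroup.centralizer {d, e} → Subgroup.centralizer {d, e} ≤ Subgroup.normalizer (N : Set G) → N = ⊥

end Cfsg.Agent.U62Rec
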